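import Groth.Agent.L24.St.SmoothLocal
import Groth.Agent.L24.St.DiagAbs
import Groth.Agent.L24.St.AlgStackInv
import Groth.Agent.L09.FieldPt.Basic
import Groth.Agent.L23.FppfSmooth

/-!
Smooth charts of a stack smooth over the base are smooth over the base.
-/

set_option autoImplicit false
set_option backward.isDefEq.respectTransparency false
set_option backward.isDefEq.respectTransparency.types false

universe u

open CategoryTheory CategoryTheory.Limits AlgebraicGeometry Opposite AlgSt

noncomputable section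

namespace Groth.L24.Multi

open Groth.L24.St

variable {S : Scheme.{u}}

theorem smooth_hom_of_toSelf_chart {V : Over S} (y : FibCat.overCat V ⥤ᵇ FibCat.selfOver (Over S))
    (hy : RepByAlgSpWith (AlgSp.LocP @Smooth) y) : Smooth V.hom := by
  let t : V ⟶ Over.mk (𝟙 S) := Over.homMk V.hom (Category.comp_id _)
  have i : y ≅ BasedFunctor.comp (overMap t) (FibCat.toSelf (FibCat.overCat (Over.mk (𝟙 S)))) :=
    (toSelfIso y) ≪≫ (toSelfIso (overMap t)).symm
  exact Groth.L09.FieldPt.prop_of_repWith_overMap Groth.L23.etLocal_smooth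
    ((repWith_postcomp toSelf_isEquivOver_of_terminal _).1 ((repWith_congr i).1 hy))

/-- Smooth charts of a stack smooth over the base are smooth over the base. -/
theorem smooth_hom_of_locQ {𝒵 : AlgSt.Cat S} (h𝒵 : FibCat.IsFibGrpd 𝒵.p)
    (hsm : AlgSt.LocQ (AlgSp.LocP @Smooth) (FibCat.toSelf 𝒵)) {Z : Over S} {p : FibCat.overCat Z ⥤ᵇ 𝒵}
    (hp : RepByAlgSpWith (AlgSp.LocP @Smooth) p) : Smooth Z.hom := by
  obtain ⟨U, V, x, y, h, -, hx, hxs, hy, hh⟩ := hsm
  have := smooth_hom_of_toSelf_chart y hy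
  have : Smooth h.left := (LocQ.locP_map_iff Groth.L23.etLocal_smooth h).1 hh
  have hU : Smooth U.hom := by rw [← Over.w h]; infer_instance
  obtain ⟨W, ψ, ρ, hψ, hρ, hcov⟩ := exists_smooth_square h𝒵 hx hp
  have : Surjective ρ.left := ⟨fun w => by
    obtain ⟨q, hq⟩ := isSurjective_of_repWith (overCat_isFibGrpd U) h𝒵 hxs (Points.ofChart p w)
    obtain ⟨t, rfl⟩ : ∃ t, ptOver t = q := ⟨_, ptOver_overPt q⟩
    obtain ⟨v, -, hv⟩ := hcov t w hq
    exact ⟨v, hv⟩⟩
  refine Groth.L23.FppfSmooth.smooth_of_fppf_comp ρ.left Z.hom ?_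
  rw [Over.w ρ, ← Over.w ψ]
  infer_instance

end Groth.L24.Multi
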