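import Groth.Agent.L24.Boot.SigmaCharts
import Groth.Agent.L24.St.Yoneda
import Groth.Agent.L23.NormQF
import Groth.Agent.L24.St.StackSp
import Groth.Agent.L09.Stack.CompSource
import Groth.Agent.L24.St.Chart
import Groth.Agent.L24.St.Bootstrap2
import Groth.Agent.L09.FieldPt.Basic
import Groth.Agent.L23.SpaceSmoothDesc

/-!
Functors from disjoint unions of schemes to stacks.
-/

set_option autoImplicit false
set_option backward.isDefEq.respectTransparency false
set_option backward.isDefEq.respectTransparency.types false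

universe u

open CategoryTheory CategoryTheory.Limits AlgebraicGeometry Opposite AlgSt

noncomputable section

namespace Groth.L24.Multi

open Groth.L24.St

variable {S : Scheme.{u}} {𝒵 : AlgSt.Cat S}

/-- The empty sieve. -/
def emptySieve (Z : Over S) : Sieve Z := Sieve.ofArrows (fun _ : PEmpty.{u + 1} => Z) (fun i => i.elim)

theorem empty_sieve_mem {Z : Over S} (hZ : IsEmpty ↥Z.left) :
    emptySieve Z ∈ AlgSp.J S Z :=
  Groth.L23.Norm.etale_family_mem_J (fun i : PEmpty.{u + 1} => i.elim) (fun i => i.elim) fun t => hZ.elim t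

theorem not_empty_sieve {Z Y : Over S} {f : Y ⟶ Z} :
    ¬ (emptySieve Z) f := by
  rintro ⟨_, _, _, ⟨i⟩, _⟩
  exact i.elim

/-- Over an empty scheme all objects are uniquely isomorphic. -/
theorem exists_unique_overId (h𝒵 : Stk.IsStack (AlgSp.J S) 𝒵) {Z : Over S} (hZ : IsEmpty ↥Z.left) (a b : 𝒵.obj)
    (ha : 𝒵.p.obj a = Z) (hb : 𝒵.p.obj b = Z) : ∃! φ : a ⟶ b, OverId φ := by
  have hg := h𝒵.1
  obtain ⟨G, i, hi⟩ := exists_overCat_functor hg a ha
  obtain ⟨H, j, hj⟩ := exists_overCat_functor hg b hb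
  have : (Stk.resSieve _ 𝒵).IsEquivalence := h𝒵.2 _ (empty_sieve_mem hZ)
  let R := Stk.resSieve (emptySieve Z) 𝒵
  let τ : R.obj G ≅ R.obj H := mkIso2 (fun t => (not_empty_sieve t.property).elim)
    (fun t t' _ => (not_empty_sieve t.property).elim) (fun t => (not_empty_sieve t.property).elim)
  let e : G ≅ H := R.preimageIso τ
  refine ⟨i.inv ≫ (appIso e (idObj Z)).hom ≫ j.hom,
    (OverId.inv hi).comp ((overId_app e.hom _).comp hj), fun φ hφ => ?_⟩
  have : IsIso φ := by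
    have : 𝒵.p.IsHomLift (𝟙 Z) φ := hφ.lift ha
    exact Groth.L09.Fib.isIso_of_isFibGrpd 𝒵.p hg (𝟙 Z) φ
  obtain ⟨e', he'⟩ := exists_iso_of_evalId hg (i ≪≫ asIso φ ≪≫ j.symm) (hi.comp (hφ.comp (OverId.inv hj)))
  have h1 : R.map e'.hom = R.map e.hom := by
    apply BasedNatTrans.homCategory.ext
    ext t
    exact (not_empty_sieve t.property).elim
  rw [appIso_hom, ← R.map_injective h1, he']
  simp

variable {I : Type u} {A : I → Over S}

theorem hom_unique_empty (h𝒵 : Stk.IsStack (AlgSp.J S) 𝒵) {Z Z' : Over S} (hZ : IsEmpty ↥Z.left) (k : Z ⟶ Z')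
    {a b : 𝒵.obj} (χ χ' : a ⟶ b) [𝒵.p.IsHomLift k χ] [𝒵.p.IsHomLift k χ'] : χ = χ' := by
  have hs := Groth.L09.Fib.stronglyCartesian_of_isFibGrpd 𝒵.p h𝒵.1 k χ
  let φ := Functor.IsStronglyCartesian.map 𝒵.p k χ (Category.id_comp k).symm χ'
  have ha : 𝒵.p.obj a = Z := IsHomLift.domain_eq 𝒵.p k χ
  have hl : 𝒵.p.IsHomLift (𝟙 Z) φ := inferInstance
  have : φ = 𝟙 a := (exists_unique_overId h𝒵 hZ a a ha ha).unique (overId_of_lift hl) (overId_id a)
  have h1 : φ ≫ χ = χ' := Functor.IsStronglyCartesian.fac _ _ _ _ _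
  rw [this, Category.id_comp] at h1
  exact h1

theorem hom_exists_empty (h𝒵 : Stk.IsStack (AlgSp.J S) 𝒵) {Z Z' : Over S} (hZ : IsEmpty ↥Z.left) (k : Z ⟶ Z')
    (a b : 𝒵.obj) (ha : 𝒵.p.obj a = Z) (hb : 𝒵.p.obj b = Z') : ∃ χ : a ⟶ b, 𝒵.p.IsHomLift k χ := by
  obtain ⟨c, ψ, hψ⟩ := h𝒵.1.exists_lift (k ≫ eqToHom hb.symm)
  obtain ⟨φ, hφ, -⟩ := exists_unique_overId h𝒵 hZ a c ha (IsHomLift.domain_eq 𝒵.p (k ≫ eqToHom hb.symm) ψ)
  have := hφ.lift ha
  subst hb
  have h' : 𝒵.p.IsHomLift (𝟙 Z ≫ k ≫ eqToHom rfl) (φ ≫ ψ) := inferInstance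
  exact ⟨φ ≫ ψ, by simpa using h'⟩

variable (p : ∀ i, FibCat.overCat (A i) ⥤ᵇ 𝒵)

/-- A point of a member of a disjoint union. -/
structure DPt (A : I → Over S) : Type (u + 1) where
  i : I
  Z : Over S
  g : Z ⟶ A i

variable (D : Boot.SigmaData A)

/-- The point of the union. -/
abbrev dObj (a : DPt A) : Over D.V := Over.mk (a.g ≫ D.inj a.i)

/-- The category of points of members. -/
abbrev dCat : BasedCategory.{u, u + 1} (Over S) :=
  BasedCategory.ofFunctor (inducedFunctor (dObj D) ⋙ Over.forget D.V)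

/-- The object at a point. -/
abbrev dVal (a : DPt A) : 𝒵.obj := (p a.i).obj (Over.mk a.g)

/-- The condition on the map between points of members. -/
def IsDMap (a b : DPt A) (k : a.Z ⟶ b.Z) (χ : dVal p a ⟶ dVal p b) : Prop :=
  𝒵.p.IsHomLift k χ ∧ ∀ (e : a.i = b.i) (g' : b.Z ⟶ A a.i) (hg' : HEq g' b.g) (h : k ≫ g' = a.g),
    HEq χ ((p a.i).map (Over.homMk k h : Over.mk a.g ⟶ Over.mk g'))

theorem exists_unique_dMap (h𝒵 : Stk.IsStack (AlgSp.J S) 𝒵) (a b : DPt A) (k : a.Z ⟶ b.Z)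
    (hk : k ≫ b.g ≫ D.inj b.i = a.g ≫ D.inj a.i) : ∃! χ, IsDMap p a b k χ := by
  obtain ⟨i, Z, g⟩ := a
  obtain ⟨j, Z', g'⟩ := b
  by_cases hZ : IsEmpty ↥Z.left
  · obtain ⟨χ, hχ⟩ := hom_exists_empty h𝒵 hZ k _ _ ((p i).w_obj (Over.mk g)) ((p j).w_obj (Over.mk g'))
    refine ⟨χ, ⟨hχ, fun e g'' hg'' h => ?_⟩, fun χ' hχ' => ?_⟩
    · dsimp only at e g'' hg'' h ⊢
      subst e
      obtain rfl := eq_of_heq hg''
      have : (FibCat.overCat (A i)).p.IsHomLift k (Over.homMk k h : Over.mk g ⟶ Over.mk g'') :=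
        IsHomLift.map (Over.forget (A i)) (Over.homMk k h : Over.mk g ⟶ Over.mk g'')
      exact heq_of_eq (hom_unique_empty h𝒵 hZ k _ _)
    · have := hχ'.1
      exact hom_unique_empty h𝒵 hZ k χ' χ
  · obtain rfl : i = j := D.eq_of_comp_eq g (k ≫ g') ((Category.assoc _ _ _).trans hk).symm hZ
    dsimp only at k hk
    have hk' : k ≫ g' = g := by
      have := Over.mono_of_mono_left (D.inj i)
      rw [← cancel_mono (D.inj i), Category.assoc]; exact hk
    refine ⟨(p i).map (Over.homMk k hk' : Over.mk g ⟶ Over.mk g'), ⟨?_, fun e g'' hg'' h => ?_⟩, fun χ' hχ' =>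
      eq_of_heq (hχ'.2 rfl g' HEq.rfl hk')⟩
    · have : (FibCat.overCat (A i)).p.IsHomLift k (Over.homMk k hk' : Over.mk g ⟶ Over.mk g') :=
        IsHomLift.map (Over.forget (A i)) (Over.homMk k hk' : Over.mk g ⟶ Over.mk g')
      show 𝒵.p.IsHomLift k ((p i).map (Over.homMk k hk' : Over.mk g ⟶ Over.mk g'))
      infer_instance
    · dsimp only at g'' hg'' h ⊢
      obtain rfl := eq_of_heq hg''
      rfl

variable (h𝒵 : Stk.IsStack (AlgSp.J S) 𝒵)

theorem dObj_w {a b : (dCat D).obj} (m : a ⟶ b) : m.hom.left ≫ b.g ≫ D.inj b.i = a.g ≫ D.inj a.i := Over.w m.hom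

/-- The glued functor on points of members. -/
def dFun : dCat D ⥤ᵇ 𝒵 where
  toFunctor :=
    { obj := fun a => dVal p a
      map := fun {a b} m => (exists_unique_dMap p D h𝒵 a b m.hom.left (dObj_w D m)).exists.choose
      map_id := fun a => by
        refine (exists_unique_dMap p D h𝒵 a a (𝟙 _) (Category.id_comp _)).unique
          (exists_unique_dMap p D h𝒵 a a _ (dObj_w D (𝟙 a))).exists.choose_spec ⟨?_, fun e g' hg' h => ?_⟩
        · exact IsHomLift.id ((p a.i).w_obj (Over.mk a.g))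
        · obtain rfl := eq_of_heq hg'
          rw [show (Over.homMk (𝟙 a.Z) h : Over.mk a.g ⟶ Over.mk a.g) = 𝟙 _ from Over.OverMorphism.ext rfl,
            (p a.i).toFunctor.map_id]
      map_comp := fun {a b c} m n => by
        obtain ⟨hm, hm'⟩ := (exists_unique_dMap p D h𝒵 a b _ (dObj_w D m)).exists.choose_spec
        obtain ⟨hn, hn'⟩ := (exists_unique_dMap p D h𝒵 b c _ (dObj_w D n)).exists.choose_spec
        generalize (exists_unique_dMap p D h𝒵 a b _ (dObj_w D m)).exists.choose = χ at hm hm' ⊢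
        generalize (exists_unique_dMap p D h𝒵 b c _ (dObj_w D n)).exists.choose = χ' at hn hn' ⊢
        refine (exists_unique_dMap p D h𝒵 a c _ (dObj_w D (m ≫ n))).unique
          (exists_unique_dMap p D h𝒵 a c _ (dObj_w D (m ≫ n))).exists.choose_spec
          ⟨(inferInstance : 𝒵.p.IsHomLift (m.hom.left ≫ n.hom.left) (χ ≫ χ')), fun e g' hg' h => ?_⟩
        by_cases hZ : IsEmpty ↥a.Z.left
        · obtain ⟨i, Z, g⟩ := a
          obtain ⟨j, Z', g''⟩ := c
          dsimp only at e g' hg' h hZ χ χ' hm hn ⊢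
          subst e
          obtain rfl := eq_of_heq hg'
          have : (FibCat.overCat (A i)).p.IsHomLift (m.hom.left ≫ n.hom.left)
              (Over.homMk _ h : Over.mk g ⟶ Over.mk g') :=
            IsHomLift.map (Over.forget (A i)) (Over.homMk _ h : Over.mk g ⟶ Over.mk g')
          have : 𝒵.p.IsHomLift (m.hom.left ≫ n.hom.left) ((p i).map (Over.homMk _ h : Over.mk g ⟶ Over.mk g')) :=
            inferInstance
          exact heq_of_eq (hom_unique_empty h𝒵 hZ (m.hom.left ≫ n.hom.left) _ _)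
        · have hb : ¬ IsEmpty ↥b.Z.left := fun hb => hZ ⟨fun t => hb.elim (m.hom.left.left t)⟩
          have e₁ : a.i = b.i := D.eq_of_comp_eq a.g (m.hom.left ≫ b.g)
            ((Category.assoc _ _ _).trans (dObj_w D m)).symm hZ
          have e₂ : b.i = c.i := D.eq_of_comp_eq b.g (n.hom.left ≫ c.g)
            ((Category.assoc _ _ _).trans (dObj_w D n)).symm hb
          have w₁ := dObj_w D m
          have w₂ := dObj_w D n
          obtain ⟨i, Z, g⟩ := a
          obtain ⟨j, Z', gb⟩ := b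
          obtain ⟨l, Z'', gc⟩ := c
          dsimp only at e₁ e₂ e g' hg' h w₁ w₂ hm' hn' χ χ' ⊢
          subst e₁ e₂
          obtain rfl := eq_of_heq hg'
          have := Over.mono_of_mono_left (D.inj i)
          have k₁ : m.hom.left ≫ gb = g := by rw [← cancel_mono (D.inj i), Category.assoc]; exact w₁
          have k₂ : n.hom.left ≫ g' = gb := by rw [← cancel_mono (D.inj i), Category.assoc]; exact w₂
          rw [eq_of_heq (hm' rfl gb HEq.rfl k₁), eq_of_heq (hn' rfl g' HEq.rfl k₂)]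
          exact heq_of_eq (((p i).toFunctor.map_comp _ _).symm.trans (congrArg (p i).map (Over.OverMorphism.ext rfl))) }
  w := CategoryTheory.Functor.ext (fun a => (p a.i).w_obj _) fun a b m => by
    have := (exists_unique_dMap p D h𝒵 a b _ (dObj_w D m)).exists.choose_spec.1
    exact IsHomLift.fac' 𝒵.p m.hom.left _

/-- The sieve of points of members. -/
def dSieve : Sieve D.V := Sieve.ofArrows A D.inj

/-- Points of members in the sieve. -/
def dToSieve : dCat D ⥤ᵇ Stk.sieveCat (dSieve D) where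
  toFunctor := ObjectProperty.lift _ (inducedFunctor (dObj D)) fun a => ⟨A a.i, a.g, D.inj a.i, ⟨a.i⟩, rfl⟩
  w := rfl

theorem dToSieve_isEquivOver : FibCat.IsEquivOver (dToSieve D) := by
  have : (dToSieve D).toFunctor.Faithful := ⟨fun {a b m m'} h =>
    InducedCategory.hom_ext (congrArg (fun t : (dToSieve D).obj a ⟶ (dToSieve D).obj b => t.hom) h)⟩
  have : (dToSieve D).toFunctor.Full := ⟨fun {a b} M => ⟨InducedCategory.homMk M.hom, rfl⟩⟩
  refine isEquivOver_of_overId _ fun η => ?_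
  obtain ⟨_, g, _, ⟨i⟩, hf⟩ := η.property
  refine ⟨⟨i, η.obj.left, g⟩, ObjectProperty.isoMk _ (Over.isoMk (Iso.refl _) ?_), OverId.of_eq rfl rfl⟩
  exact (Category.id_comp _).trans hf.symm

include h𝒵 in
/-- Functors on the members glue on a disjoint union. -/
theorem exists_glue : ∃ q : FibCat.overCat D.V ⥤ᵇ 𝒵,
    ∀ i, Nonempty (BasedFunctor.comp (overMap (D.inj i)) q ≅ p i) := by
  obtain ⟨c, -, ⟨j⟩, -⟩ := exists_inverse (dToSieve_isEquivOver D)
  have hR : dSieve D ∈ AlgSp.J S D.V := Groth.L23.Norm.etale_family_mem_J D.inj (fun i => inferInstance) D.cover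
  have : (Stk.resSieve (dSieve D) 𝒵).IsEquivalence := h𝒵.2 _ hR
  let q := (Stk.resSieve (dSieve D) 𝒵).objPreimage (BasedFunctor.comp c (dFun p D h𝒵))
  let e := (Stk.resSieve (dSieve D) 𝒵).objObjPreimageIso (BasedFunctor.comp c (dFun p D h𝒵))
  refine ⟨q, fun i => ?_⟩
  let t : (dCat D).obj := ⟨i, A i, 𝟙 _⟩
  let φ := appIso (whiskerL (dToSieve D) e ≪≫ whiskerR j (dFun p D h𝒵)) t
  obtain ⟨r, -⟩ := exists_iso_of_evalId h𝒵.1 (G := BasedFunctor.comp (overMap (D.inj i)) q) (H := p i) φ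
    (overId_app (whiskerL (dToSieve D) e ≪≫ whiskerR j (dFun p D h𝒵)).hom t)
  exact ⟨r⟩

/-- A glued functor of smooth charts is smooth. -/
theorem smooth_glue (h : AlgSt.IsAlgStack Scheme.fppfPrecoverage 𝒵) {q : FibCat.overCat D.V ⥤ᵇ 𝒵}
    (hq : ∀ i, Nonempty (BasedFunctor.comp (overMap (D.inj i)) q ≅ p i))
    (hp : ∀ i, RepByAlgSpWith (AlgSp.LocP @Smooth) (p i)) : RepByAlgSpWith (AlgSp.LocP @Smooth) q := by
  intro T z
  obtain ⟨G, e, he, -⟩ := (rep1_iff q).1 (Groth.L09.FieldPt.rep1_overCat h q) T z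
  refine ⟨G, e, he, ?_⟩
  let x := BasedFunctor.comp e (FibCat.fpSnd z q)
  choose W a e' hW he' hi' ha using fun i => exists_space_prop hasAtlasCovers_atlasCov (pBase_locP Groth.L23.etLocal_smooth)
    (isLocalOnBase_locP Groth.L23.etLocal_smooth) (overCat_isFibGrpd (A i)) (overCat_isFibGrpd D.V)
    (smooth_overMap (D.inj i)) G.property x
  have hcov : AlgSp.IsSmCover W a := by
    refine ⟨ha, fun g => ?_⟩
    obtain ⟨t, ht⟩ : ∃ t, ptOver t = Points.map x (ptMap G.obj g) := ⟨_, ptOver_overPt _⟩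
    obtain ⟨i, u, hu⟩ := D.cover t
    obtain ⟨w, hw₁, -⟩ := exists_points_fp (overCat_isFibGrpd (A i)) (overCat_isFibGrpd D.V) (ofSp_isFibGrpd G.obj)
      (overMap (D.inj i)) x (ptMap G.obj g) (ptOver u) (by rw [map_overMap_ptOver, hu, ht])
    obtain ⟨w', hw'⟩ := isSurjective_of_isEquivOver (he' i) w
    obtain ⟨v, rfl⟩ := (ptMap_bijective (W i)).2 w'
    obtain ⟨ii⟩ := hi' i
    refine ⟨i, v, (ptMap_bijective G.obj).1 ?_⟩
    rw [← ptMap_map, ← map_congr ii, ← hw₁, ← hw', map_comp_apply]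
  refine (Groth.L23.isLocalOnSource_smooth_locP_smooth W a G.property hW hcov _ (AlgSp.IsAlgSpace.yon_obj T)).2 fun i => ?_
  obtain ⟨ii⟩ := hi' i
  obtain ⟨qi⟩ := hq i
  let Θ : FibCat.fp x (overMap (D.inj i)) ⥤ᵇ FibCat.fp (FibCat.fpSnd z q) (overMap (D.inj i)) :=
    fpMap e (BasedFunctor.id _) (Iso.refl _) (Iso.refl _)
  have hw := Wit.prop_of_equiv (fun F F' hF hF' j hj b hb => Groth.L23.locP_comp Groth.L23.etLocal_smooth hF' hF
      (AlgSp.IsAlgSpace.yon_obj T) (Groth.L23.locP_of_repWith Groth.L23.etLocal_smooth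
        (Groth.L23.repWith_mono (fun φ (hφ : Etale φ) => by infer_instance) (Groth.L23.repWith_of_isIso (P := @Etale) j))) hb)
    ((repWith_congr qi).2 (hp i) T z) (hW i) (BasedFunctor.comp (e' i) (BasedFunctor.comp Θ (fpComp z (overMap (D.inj i)) q)))
    (isEquivOver_comp (he' i) (isEquivOver_comp (fpMap_isEquivOver he (isEquivOver_id _) _ _)
      (fpComp_isEquivOver z (overMap (D.inj i)) q)))
  have key : spMapOfOver (BasedFunctor.comp (BasedFunctor.comp (e' i) (BasedFunctor.comp Θ (fpComp z (overMap (D.inj i)) q)))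
      (FibCat.fpFst z (BasedFunctor.comp (overMap (D.inj i)) q))) =
      a i ≫ spMapOfOver (BasedFunctor.comp e (FibCat.fpFst z q)) := by
    rw [← spMapOfOver_ofSpMap_comp]
    exact spMapOfOver_congr (whiskerR ii (BasedFunctor.comp e (FibCat.fpFst z q)))
  rw [key] at hw
  exact hw

end Groth.L24.Multi
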