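import Groth.Agent.L23.AlgSpace
import Groth.Agent.L23.LocP

/-!
Sheaves of arrows over a scheme with composition and division on points.
-/

set_option autoImplicit false
set_option backward.isDefEq.respectTransparency false
set_option backward.isDefEq.respectTransparency.types false

universe u

open CategoryTheory CategoryTheory.Limits AlgebraicGeometry Opposite AlgSp

noncomputable section

namespace Groth.L24.Multi

variable {S : Scheme.{u}}

/-- An algebraic space of arrows between points of a scheme, with a composition, units and division. -/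
structure Arr (U : Over S) where
  E : Sp S
  a : E ⟶ (yon S).obj U
  b : E ⟶ (yon S).obj U
  isAlgSpace : IsAlgSpace E
  smooth : LocP @Smooth a
  comp : ∀ {T : Over S} (s t : (yon S).obj T ⟶ E), s ≫ b = t ≫ a → ((yon S).obj T ⟶ E)
  comp_a : ∀ {T : Over S} (s t : (yon S).obj T ⟶ E) (h : s ≫ b = t ≫ a), comp s t h ≫ a = s ≫ a
  comp_b : ∀ {T : Over S} (s t : (yon S).obj T ⟶ E) (h : s ≫ b = t ≫ a), comp s t h ≫ b = t ≫ b
  comp_nat : ∀ {T T' : Over S} (g : T' ⟶ T) (s t : (yon S).obj T ⟶ E) (h : s ≫ b = t ≫ a),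
    (yon S).map g ≫ comp s t h = comp ((yon S).map g ≫ s) ((yon S).map g ≫ t)
      (by rw [Category.assoc, h, Category.assoc])
  one : ∀ {T : Over S}, (T ⟶ U) → ((yon S).obj T ⟶ E)
  one_a : ∀ {T : Over S} (v : T ⟶ U), one v ≫ a = (yon S).map v
  one_b : ∀ {T : Over S} (v : T ⟶ U), one v ≫ b = (yon S).map v
  one_nat : ∀ {T T' : Over S} (g : T' ⟶ T) (v : T ⟶ U), (yon S).map g ≫ one v = one (g ≫ v)
  div : ∀ {T : Over S} (s t : (yon S).obj T ⟶ E), s ≫ a = t ≫ a → ((yon S).obj T ⟶ E)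
  div_a : ∀ {T : Over S} (s t : (yon S).obj T ⟶ E) (h : s ≫ a = t ≫ a), div s t h ≫ a = s ≫ b
  div_b : ∀ {T : Over S} (s t : (yon S).obj T ⟶ E) (h : s ≫ a = t ≫ a), div s t h ≫ b = t ≫ b
  div_nat : ∀ {T T' : Over S} (g : T' ⟶ T) (s t : (yon S).obj T ⟶ E) (h : s ≫ a = t ≫ a),
    (yon S).map g ≫ div s t h = div ((yon S).map g ≫ s) ((yon S).map g ≫ t)
      (by rw [Category.assoc, h, Category.assoc])
  div_comp_div : ∀ {T : Over S} (r s t : (yon S).obj T ⟶ E) (h₁ : r ≫ a = s ≫ a) (h₂ : s ≫ a = t ≫ a),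
    comp (div r s h₁) (div s t h₂) ((div_b r s h₁).trans (div_a s t h₂).symm) = div r t (h₁.trans h₂)
  eq_div : ∀ {T : Over S} (s x : (yon S).obj T ⟶ E) (h : s ≫ b = x ≫ a),
    x = div s (comp s x h) (comp_a s x h).symm
  div_one : ∀ {T : Over S} (v : T ⟶ U) (t : (yon S).obj T ⟶ E) (h : one v ≫ a = t ≫ a), div (one v) t h = t
  div_self : ∀ {T : Over S} (s : (yon S).obj T ⟶ E) (v : T ⟶ U), s ≫ b = (yon S).map v → div s s rfl = one v

namespace Arr

variable {U : Over S} (A : Arr U)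

theorem comp_congr {T : Over S} {s s' t t' : (yon S).obj T ⟶ A.E} (hs : s = s') (ht : t = t')
    (h : s ≫ A.b = t ≫ A.a) : A.comp s t h = A.comp s' t' (hs ▸ ht ▸ h) := by
  subst hs ht; rfl

theorem div_congr {T : Over S} {s s' t t' : (yon S).obj T ⟶ A.E} (hs : s = s') (ht : t = t')
    (h : s ≫ A.a = t ≫ A.a) : A.div s t h = A.div s' t' (hs ▸ ht ▸ h) := by
  subst hs ht; rfl

/-- An idempotent arrow is a unit. -/
theorem idem {T : Over S} (s : (yon S).obj T ⟶ A.E) (v : T ⟶ U) (hv : s ≫ A.a = (yon S).map v)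
    (h : s ≫ A.b = s ≫ A.a) (e : A.comp s s h = s) : s = A.one v := by
  have h1 := A.eq_div s s h
  rw [A.div_congr rfl e] at h1
  exact h1.trans (A.div_self s v (h.trans hv))

end Arr

end Groth.L24.Multi
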