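import Groth.Agent.L24.Multi.Arrows
import Groth.Agent.L24.St.Stack
import Groth.Agent.L24.St.StackSp
import Groth.Agent.L24.St.Rep
import Groth.Prelude.Def_AlgSt3

/-!
The arrows of an atlas of a stack.
-/

set_option autoImplicit false
set_option backward.isDefEq.respectTransparency false
set_option backward.isDefEq.respectTransparency.types false

universe u

open CategoryTheory CategoryTheory.Limits AlgebraicGeometry Opposite AlgSp

noncomputable section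

namespace Groth.L24.Multi

open Groth.L24.St

variable {S : Scheme.{u}} {𝒵 : AlgSt.Cat S} {U : Over S} (x : FibCat.overCat U ⥤ᵇ 𝒵)

/-- The object at a point of the atlas. -/
abbrev ob {T : Over S} (v : T ⟶ U) : 𝒵.obj := x.obj (Over.mk v)

/-- The morphism between objects at compatible points. -/
def pull {T T' : Over S} {v : T ⟶ U} {v' : T' ⟶ U} (g : T' ⟶ T) (e : g ≫ v = v') : ob x v' ⟶ ob x v :=
  x.map (Over.homMk g e : Over.mk v' ⟶ Over.mk v)

instance pull_lift {T T' : Over S} {v : T ⟶ U} {v' : T' ⟶ U} (g : T' ⟶ T) (e : g ≫ v = v') :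
    𝒵.p.IsHomLift g (pull x g e) := by
  have : (FibCat.overCat U).p.IsHomLift g (Over.homMk g e : Over.mk v' ⟶ Over.mk v) :=
    IsHomLift.map (Over.forget U) (Over.homMk g e : Over.mk v' ⟶ Over.mk v)
  unfold pull
  infer_instance

@[simp] theorem pull_self {T : Over S} {v : T ⟶ U} (e : 𝟙 T ≫ v = v) : pull x (𝟙 T) e = 𝟙 _ := by
  unfold pull
  rw [show (Over.homMk (𝟙 T) e : Over.mk v ⟶ Over.mk v) = 𝟙 _ from Over.OverMorphism.ext rfl]
  exact x.toFunctor.map_id _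

theorem pull_comp {T₁ T₂ T₃ : Over S} {v₁ : T₁ ⟶ U} {v₂ : T₂ ⟶ U} {v₃ : T₃ ⟶ U} (k : T₁ ⟶ T₂) (l : T₂ ⟶ T₃)
    (e : k ≫ v₂ = v₁) (e' : l ≫ v₃ = v₂) :
    pull x k e ≫ pull x l e' = pull x (k ≫ l) (by rw [Category.assoc, e', e]) :=
  (x.toFunctor.map_comp _ _).symm.trans (congrArg x.map (Over.OverMorphism.ext rfl))

theorem pull_comp_assoc {T₁ T₂ T₃ : Over S} {v₁ : T₁ ⟶ U} {v₂ : T₂ ⟶ U} {v₃ : T₃ ⟶ U} (k : T₁ ⟶ T₂) (l : T₂ ⟶ T₃)
    (e : k ≫ v₂ = v₁) (e' : l ≫ v₃ = v₂) {c : 𝒵.obj} (f : ob x v₃ ⟶ c) :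
    pull x k e ≫ pull x l e' ≫ f = pull x (k ≫ l) (by rw [Category.assoc, e', e]) ≫ f := by
  rw [← pull_comp x k l e e', Category.assoc]

theorem pull_congr {T T' : Over S} {v : T ⟶ U} {v' : T' ⟶ U} {g g' : T' ⟶ T} (h : g = g') (e : g ≫ v = v') :
    pull x g e = pull x g' (h ▸ e) := by subst h; rfl

/-- An isomorphism between two objects of the atlas over the identity. -/
structure Ar (T : Over S) : Type u where
  v : T ⟶ U
  w : T ⟶ U
  φ : ob x v ⟶ ob x w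
  over_id : 𝒵.p.IsHomLift (𝟙 T) φ

variable {x}

instance {T : Over S} (s : Ar x T) : 𝒵.p.IsHomLift (𝟙 T) s.φ := s.over_id

theorem Ar.ext' {T : Over S} {s t : Ar x T} (hv : s.v = t.v) (hw : s.w = t.w)
    (h : pull x (𝟙 T) ((Category.id_comp _).trans hv.symm) ≫ t.φ =
      s.φ ≫ pull x (𝟙 T) ((Category.id_comp _).trans hw.symm)) : s = t := by
  obtain ⟨v, w, φ, o⟩ := s
  obtain ⟨v', w', φ', o'⟩ := t
  dsimp only at hv hw
  subst hv hw
  dsimp only at h
  simp only [pull_self, Category.id_comp, Category.comp_id] at h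
  subst h; rfl

variable (hg : FibCat.IsFibGrpd 𝒵.p)
include hg

theorem hom_ext_pull {T T' R : Over S} {v : T ⟶ U} {v' : T' ⟶ U} (g : T' ⟶ T) (e : g ≫ v = v') (f : R ⟶ T')
    {a : 𝒵.obj} {χ χ' : a ⟶ ob x v'} [𝒵.p.IsHomLift f χ] [𝒵.p.IsHomLift f χ']
    (h : χ ≫ pull x g e = χ' ≫ pull x g e) : χ = χ' :=
  have := Groth.L09.Fib.stronglyCartesian_of_isFibGrpd 𝒵.p hg g (pull x g e)
  Functor.IsStronglyCartesian.ext 𝒵.p g (pull x g e) f h

theorem exists_res {T T' : Over S} (g : T' ⟶ T) (s : Ar x T) :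
    ∃ φ : ob x (g ≫ s.v) ⟶ ob x (g ≫ s.w), 𝒵.p.IsHomLift (𝟙 T') φ ∧
      φ ≫ pull x g rfl = pull x g rfl ≫ s.φ := by
  have := Groth.L09.Fib.stronglyCartesian_of_isFibGrpd 𝒵.p hg g (pull x g (rfl : g ≫ s.w = g ≫ s.w))
  have : 𝒵.p.IsHomLift g (pull x g (rfl : g ≫ s.v = g ≫ s.v) ≫ s.φ) := by
    have h : 𝒵.p.IsHomLift (g ≫ 𝟙 T) (pull x g (rfl : g ≫ s.v = g ≫ s.v) ≫ s.φ) := inferInstance
    rwa [Category.comp_id] at h
  refine ⟨Functor.IsStronglyCartesian.map 𝒵.p g (pull x g (rfl : g ≫ s.w = g ≫ s.w))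
    (Category.id_comp g).symm (pull x g rfl ≫ s.φ), inferInstance, ?_⟩
  exact Functor.IsStronglyCartesian.fac _ _ _ _ _

/-- Restriction of an arrow. -/
def Ar.res {T T' : Over S} (g : T' ⟶ T) (s : Ar x T) : Ar x T' :=
  ⟨g ≫ s.v, g ≫ s.w, (exists_res hg g s).choose, (exists_res hg g s).choose_spec.1⟩

theorem Ar.res_spec {T T' : Over S} (g : T' ⟶ T) (s : Ar x T) :
    (s.res hg g).φ ≫ pull x g (show g ≫ s.w = (s.res hg g).w from rfl) =
      pull x g (show g ≫ s.v = (s.res hg g).v from rfl) ≫ s.φ := (exists_res hg g s).choose_spec.2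

theorem Ar.eq_res {T T' : Over S} (g : T' ⟶ T) {s : Ar x T} {t : Ar x T'} (hv : g ≫ s.v = t.v) (hw : g ≫ s.w = t.w)
    (h : t.φ ≫ pull x g hw = pull x g hv ≫ s.φ) : t = s.res hg g := by
  obtain ⟨v, w, φ, o⟩ := t
  dsimp only at hv hw
  subst hv hw
  refine Ar.ext' rfl rfl ?_
  simp only [Ar.res, pull_self, Category.id_comp, Category.comp_id]
  have := (exists_res hg g s).choose_spec.1
  exact (hom_ext_pull hg g rfl (𝟙 T') (h.trans (exists_res hg g s).choose_spec.2.symm)).symm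

/-- Composition. -/
def Ar.comp {T : Over S} (s t : Ar x T) (h : s.w = t.v) : Ar x T :=
  ⟨s.v, t.w, s.φ ≫ pull x (𝟙 T) ((Category.id_comp _).trans h.symm) ≫ t.φ, by
    have h' : 𝒵.p.IsHomLift (𝟙 T ≫ 𝟙 T ≫ 𝟙 T) (s.φ ≫ pull x (𝟙 T) ((Category.id_comp _).trans h.symm) ≫ t.φ) :=
      inferInstance
    simpa using h'⟩

omit hg in
/-- The unit. -/
def Ar.one {T : Over S} (v : T ⟶ U) : Ar x T :=
  ⟨v, v, pull x (𝟙 T) (Category.id_comp v), inferInstance⟩

theorem Ar.isIso {T : Over S} (s : Ar x T) : IsIso s.φ :=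
  Groth.L09.Fib.isIso_of_isFibGrpd 𝒵.p hg (𝟙 T) s.φ

/-- Division. -/
def Ar.div {T : Over S} (s t : Ar x T) (h : s.v = t.v) : Ar x T :=
  have := s.isIso hg
  ⟨s.w, t.w, inv s.φ ≫ pull x (𝟙 T) ((Category.id_comp _).trans h.symm) ≫ t.φ, by
    have : 𝒵.p.IsHomLift (𝟙 T) (inv s.φ) := IsHomLift.lift_id_inv_isIso 𝒵.p T s.φ
    have h' : 𝒵.p.IsHomLift (𝟙 T ≫ 𝟙 T ≫ 𝟙 T) (inv s.φ ≫ pull x (𝟙 T) ((Category.id_comp _).trans h.symm) ≫ t.φ) :=
      inferInstance
    simpa using h'⟩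

theorem Ar.res_id {T : Over S} (s : Ar x T) : s.res hg (𝟙 T) = s :=
  (Ar.eq_res hg _ (Category.id_comp _) (Category.id_comp _) (by simp)).symm

theorem Ar.res_comp {T T' T'' : Over S} (k : T' ⟶ T) (l : T'' ⟶ T') (s : Ar x T) :
    (s.res hg k).res hg l = s.res hg (l ≫ k) := by
  refine Ar.eq_res hg _ (Category.assoc _ _ _) (Category.assoc _ _ _) ?_
  rw [← pull_comp x l k (v₂ := (s.res hg k).w) rfl rfl, ← Category.assoc, Ar.res_spec hg l (s.res hg k), Category.assoc,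
    Ar.res_spec hg k s, ← Category.assoc, pull_comp]

theorem Ar.res_mul {T T' : Over S} (g : T' ⟶ T) (s t : Ar x T) (h : s.w = t.v) :
    (s.comp t h).res hg g = (s.res hg g).comp (t.res hg g) (by simp [Ar.res, h]) := by
  refine (Ar.eq_res hg g (s := s.comp t h) rfl rfl ?_).symm
  show ((s.res hg g).φ ≫ pull x (𝟙 T') _ ≫ (t.res hg g).φ) ≫ pull x g (show g ≫ t.w = (t.res hg g).w from rfl) =
    pull x g (show g ≫ s.v = (s.res hg g).v from rfl) ≫ s.φ ≫ pull x (𝟙 T) _ ≫ t.φ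
  rw [Category.assoc, Category.assoc, Ar.res_spec hg g t, pull_comp_assoc,
    ← Category.assoc (pull x g _) s.φ, ← Ar.res_spec hg g s]
  refine Eq.trans ?_ (Category.assoc (s.res hg g).φ (pull x g _) _).symm
  rw [pull_comp_assoc]
  congr 2

theorem Ar.res_div {T T' : Over S} (g : T' ⟶ T) (s t : Ar x T) (h : s.v = t.v) :
    (s.div hg t h).res hg g = (s.res hg g).div hg (t.res hg g) (by simp [Ar.res, h]) := by
  refine (Ar.eq_res hg g (s := s.div hg t h) rfl rfl ?_).symm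
  have := s.isIso hg
  have := (s.res hg g).isIso hg
  show (inv (s.res hg g).φ ≫ pull x (𝟙 T') _ ≫ (t.res hg g).φ) ≫ pull x g (show g ≫ t.w = (t.res hg g).w from rfl) =
    pull x g (show g ≫ s.w = (s.res hg g).w from rfl) ≫ inv s.φ ≫ pull x (𝟙 T) _ ≫ t.φ
  rw [Category.assoc, Category.assoc, IsIso.inv_comp_eq, ← Category.assoc (s.res hg g).φ, Ar.res_spec hg g s,
    Category.assoc, IsIso.hom_inv_id_assoc, Ar.res_spec hg g t, pull_comp_assoc, pull_comp_assoc]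
  congr 1

theorem Ar.res_one {T T' : Over S} (g : T' ⟶ T) (v : T ⟶ U) :
    (Ar.one (x := x) v).res hg g = Ar.one (g ≫ v) := by
  refine (Ar.eq_res hg g (s := Ar.one v) rfl rfl ?_).symm
  simp only [Ar.one, pull_self, Category.id_comp, Category.comp_id]

/-- The presheaf of arrows. -/
def arPsh : PSp S where
  obj T := ULift.{u + 1} (Ar x T.unop)
  map g := ↾fun s => ULift.up (s.down.res hg g.unop)
  map_id T := by ext s; exact Ar.res_id hg s.down
  map_comp g g' := by ext s; exact (Ar.res_comp hg g.unop g'.unop s.down).symm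

/-- The comparison with the fibre product of the atlas with itself. -/
def toFp : Stk.ofPsh (arPsh (x := x) hg) ⥤ᵇ FibCat.fp x x where
  toFunctor :=
    { obj := fun a => fpObj (F := x) (G := x) (Over.mk a.sec.down.v) (Over.mk a.sec.down.w)
        (@asIso _ _ _ _ a.sec.down.φ (a.sec.down.isIso hg)) (overId_of_lift a.sec.down.over_id)
      map := fun {a b} m =>
        have hs : b.sec.down.res hg m.hom = a.sec.down := congrArg ULift.down m.map_sec
        fpHom (Over.homMk m.hom (congrArg Ar.v hs)) (Over.homMk m.hom (congrArg Ar.w hs)) (by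
          show pull x m.hom (congrArg Ar.v hs) ≫ b.sec.down.φ = a.sec.down.φ ≫ pull x m.hom (congrArg Ar.w hs)
          have key : ∀ (s : Ar x a.base) (h : b.sec.down.res hg m.hom = s),
              pull x m.hom (congrArg Ar.v h) ≫ b.sec.down.φ = s.φ ≫ pull x m.hom (congrArg Ar.w h) := fun s h => by
            subst h; exact (Ar.res_spec hg m.hom b.sec.down).symm
          exact key _ hs)
      map_id := fun a => fp_ext (Over.OverMorphism.ext rfl) (Over.OverMorphism.ext rfl)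
      map_comp := fun m n => fp_ext (Over.OverMorphism.ext rfl) (Over.OverMorphism.ext rfl) }
  w := rfl

theorem toFp_isEquivOver : FibCat.IsEquivOver (toFp (x := x) hg) := by
  have : (toFp (x := x) hg).toFunctor.Faithful := ⟨fun {a b m m'} h => Stk.EltObj.hom_ext
    (congrArg (fun t : (toFp hg).obj a ⟶ (toFp hg).obj b => t.hom.fst.left) h)⟩
  have : (toFp (x := x) hg).toFunctor.Full := ⟨fun {a b} M => by
    obtain ⟨k, hk⟩ : ∃ k : a.base ⟶ b.base, k = M.hom.fst.left := ⟨_, rfl⟩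
    have hl : (FibCat.overCat U).p.IsHomLift k M.hom.snd := by
      subst hk
      exact FibCat.fp_isHomLift_snd _ _ M
    have : (Over.forget U).IsHomLift (a := ((toFp hg).obj a).obj.snd) (b := ((toFp hg).obj b).obj.snd) k M.hom.snd := hl
    have hk' : M.hom.snd.left = k := (IsHomLift.eq_of_isHomLift (p := Over.forget U)
      (a := ((toFp hg).obj a).obj.snd) (b := ((toFp hg).obj b).obj.snd) k M.hom.snd).symm
    have hv : k ≫ b.sec.down.v = a.sec.down.v := by subst hk; exact Over.w M.hom.fst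
    have hw : k ≫ b.sec.down.w = a.sec.down.w := by subst hk'; exact Over.w M.hom.snd
    have h := M.hom.w
    refine ⟨⟨k, congrArg ULift.up (Ar.eq_res hg k hv hw ?_).symm⟩, fp_ext (Over.OverMorphism.ext hk) (Over.OverMorphism.ext hk'.symm)⟩
    rw [show M.hom.fst = (Over.homMk k hv : Over.mk a.sec.down.v ⟶ Over.mk b.sec.down.v) from Over.OverMorphism.ext hk.symm,
      show M.hom.snd = (Over.homMk k hw : Over.mk a.sec.down.w ⟶ Over.mk b.sec.down.w) from Over.OverMorphism.ext hk'] at h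
    exact h.symm⟩
  refine isEquivOver_of_overId _ fun η => ?_
  obtain ⟨⟨av, bw, i⟩, hi⟩ := η
  obtain ⟨he', -⟩ : ∃ _ : 𝒵.p.obj (x.obj av) = 𝒵.p.obj (x.obj bw), True :=
    ⟨(overId_of_lift hi).eq.choose, trivial⟩
  have he : av.left = bw.left := (x.w_obj av).symm.trans (he'.trans (x.w_obj bw))
  obtain ⟨Z, w, rfl⟩ : ∃ (Z : Over S) (w : Z ⟶ U), bw = Over.mk w := ⟨bw.left, bw.hom, rfl⟩
  obtain ⟨v, rfl⟩ : ∃ v : Z ⟶ U, av = Over.mk v := by
    obtain ⟨Z', v, rfl⟩ : ∃ (Z' : Over S) (v : Z' ⟶ U), av = Over.mk v := ⟨av.left, av.hom, rfl⟩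
    subst he
    exact ⟨v, rfl⟩
  refine ⟨⟨Z, ⟨⟨v, w, i.hom, (overId_of_lift hi).lift (x.w_obj _)⟩⟩⟩,
    fpIsoMk (Iso.refl _) (Iso.refl _) ?_, overId_fp _ (overId_id _)⟩
  show x.map (𝟙 _) ≫ i.hom = i.hom ≫ x.map (𝟙 _)
  rw [x.toFunctor.map_id, x.toFunctor.map_id, Category.id_comp, Category.comp_id]

theorem isSheaf_arPsh (h𝒵 : Stk.IsStack (AlgSp.J S) 𝒵) : Presheaf.IsSheaf (AlgSp.J S) (arPsh (x := x) hg) := by
  rw [isSheaf_iff_isSheaf_of_type]
  exact (isStack_ofPsh_iff _).1 ((L09.Fib.isStack_iff _ (toFp_isEquivOver (x := x) hg)).2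
    (isStack_fp (isStack_overCat U) (isStack_overCat U) (isPrestack_of_isStack h𝒵)))

/-- The sheaf of arrows. -/
def arSp (h𝒵 : Stk.IsStack (AlgSp.J S) 𝒵) : Sp S := ⟨arPsh (x := x) hg, isSheaf_arPsh hg h𝒵⟩

theorem Ar.div_comp_div {T : Over S} (r s t : Ar x T) (h₁ : r.v = s.v) (h₂ : s.v = t.v) :
    (r.div hg s h₁).comp (s.div hg t h₂) rfl = r.div hg t (h₁.trans h₂) := by
  refine Ar.ext' rfl rfl ?_
  simp only [Ar.comp, Ar.div, pull_self, Category.id_comp, Category.comp_id, Category.assoc]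
  have := r.isIso hg
  have := s.isIso hg
  rw [IsIso.hom_inv_id_assoc, pull_comp_assoc]
  congr 1

theorem Ar.eq_div {T : Over S} (s y : Ar x T) (h : s.w = y.v) :
    y = s.div hg (s.comp y h) rfl := by
  refine Ar.ext' h.symm rfl ?_
  have := s.isIso hg
  simp only [Ar.comp, Ar.div, pull_self, Category.id_comp, Category.comp_id, IsIso.inv_hom_id_assoc, pull_comp_assoc]

theorem Ar.div_one {T : Over S} (v : T ⟶ U) (t : Ar x T) (h : (Ar.one (x := x) v).v = t.v) :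
    (Ar.one (x := x) v).div hg t h = t := by
  have e : v = t.v := h
  subst e
  refine Ar.ext' rfl rfl ?_
  simp [Ar.div, Ar.one]

theorem Ar.div_self {T : Over S} (s : Ar x T) (v : T ⟶ U) (h : s.w = v) : s.div hg s rfl = Ar.one v := by
  subst h
  refine Ar.ext' rfl rfl ?_
  have := s.isIso hg
  simp [Ar.div, Ar.one]

variable (h𝒵 : Stk.IsStack (AlgSp.J S) 𝒵)

/-- The arrow of a point. -/
def sec {T : Over S} (s : (yon S).obj T ⟶ arSp (x := x) hg h𝒵) : Ar x T := ((AlgSp.J S).uliftYonedaEquiv s).down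

/-- The point of an arrow. -/
def arPt {T : Over S} (s : Ar x T) : (yon S).obj T ⟶ arSp (x := x) hg h𝒵 :=
  (AlgSp.J S).uliftYonedaEquiv.symm (ULift.up s)

theorem sec_arPt {T : Over S} (s : Ar x T) : sec hg h𝒵 (arPt hg h𝒵 s) = s :=
  congrArg ULift.down (Equiv.apply_symm_apply _ _)

theorem sec_inj {T : Over S} {s t : (yon S).obj T ⟶ arSp (x := x) hg h𝒵} (h : sec hg h𝒵 s = sec hg h𝒵 t) : s = t :=
  (AlgSp.J S).uliftYonedaEquiv.injective (ULift.ext _ _ h)

theorem sec_nat {T T' : Over S} (g : T' ⟶ T) (s : (yon S).obj T ⟶ arSp (x := x) hg h𝒵) :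
    sec hg h𝒵 ((yon S).map g ≫ s) = (sec hg h𝒵 s).res hg g :=
  congrArg ULift.down ((AlgSp.J S).uliftYonedaEquiv_naturality s g).symm

/-- The source of an arrow. -/
def srcMap : arSp (x := x) hg h𝒵 ⟶ (yon S).obj U := ObjectProperty.homMk
  { app := fun T => ↾fun s => ULift.up s.down.v }

/-- The target of an arrow. -/
def tgtMap : arSp (x := x) hg h𝒵 ⟶ (yon S).obj U := ObjectProperty.homMk
  { app := fun T => ↾fun s => ULift.up s.down.w }

theorem comp_srcMap {T : Over S} (s : (yon S).obj T ⟶ arSp (x := x) hg h𝒵) :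
    s ≫ srcMap hg h𝒵 = (yon S).map (sec hg h𝒵 s).v :=
  (AlgSp.J S).uliftYonedaEquiv.injective (((AlgSp.J S).uliftYonedaEquiv_comp s (srcMap hg h𝒵)).trans
    ((AlgSp.J S).uliftYonedaEquiv_uliftYoneda_map (sec hg h𝒵 s).v).symm)

theorem comp_tgtMap {T : Over S} (s : (yon S).obj T ⟶ arSp (x := x) hg h𝒵) :
    s ≫ tgtMap hg h𝒵 = (yon S).map (sec hg h𝒵 s).w :=
  (AlgSp.J S).uliftYonedaEquiv.injective (((AlgSp.J S).uliftYonedaEquiv_comp s (tgtMap hg h𝒵)).trans
    ((AlgSp.J S).uliftYonedaEquiv_uliftYoneda_map (sec hg h𝒵 s).w).symm)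

theorem tgt_eq_src {T : Over S} {s t : (yon S).obj T ⟶ arSp (x := x) hg h𝒵}
    (h : s ≫ tgtMap hg h𝒵 = t ≫ srcMap hg h𝒵) : (sec hg h𝒵 s).w = (sec hg h𝒵 t).v := by
  rw [comp_tgtMap, comp_srcMap] at h; exact (yon S).map_injective h

theorem src_eq_src {T : Over S} {s t : (yon S).obj T ⟶ arSp (x := x) hg h𝒵}
    (h : s ≫ srcMap hg h𝒵 = t ≫ srcMap hg h𝒵) : (sec hg h𝒵 s).v = (sec hg h𝒵 t).v := by
  rw [comp_srcMap, comp_srcMap] at h; exact (yon S).map_injective h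

theorem Ar.comp_congr {T : Over S} {s s' t t' : Ar x T} (hs : s = s') (ht : t = t') (h : s.w = t.v) :
    s.comp t h = s'.comp t' (hs ▸ ht ▸ h) := by subst hs ht; rfl

theorem Ar.div_congr {T : Over S} {s s' t t' : Ar x T} (hs : s = s') (ht : t = t') (h : s.v = t.v) :
    s.div hg t h = s'.div hg t' (hs ▸ ht ▸ h) := by subst hs ht; rfl

theorem srcMap_eq : srcMap (x := x) hg h𝒵 =
    AlgSt.spMapOfOver (F := arSp (x := x) hg h𝒵) (BasedFunctor.comp (toFp (x := x) hg) (FibCat.fpFst x x)) := by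
  apply ObjectProperty.hom_ext
  ext T s
  exact congrArg ULift.up (Category.id_comp _).symm

theorem isAlgSpace_arSp (hr : AlgSt.RepByAlgSpWith (LocP @Smooth) x) :
    IsAlgSpace (arSp (x := x) hg h𝒵) ∧ LocP @Smooth (srcMap (x := x) hg h𝒵) := by
  obtain ⟨F, e, he, hP⟩ := hr U x
  obtain ⟨c, hc, -, -⟩ := exists_inverse he
  have := isIso_spMap (F := arSp (x := x) hg h𝒵) (G := F.obj) (isEquivOver_comp (toFp_isEquivOver (x := x) hg) hc)
  have hE : IsAlgSpace (arSp (x := x) hg h𝒵) := Groth.L23.isAlgSpace_of_representable_to F.property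
    (Groth.L23.repWith_of_isIso (P := @Etale) (spMap (F := arSp (x := x) hg h𝒵) (G := F.obj)
      (BasedFunctor.comp (toFp (x := x) hg) c))).1
  refine ⟨hE, ?_⟩
  rw [srcMap_eq]
  exact Wit.prop_of_equiv (fun F F' hF hF' i _ a ha => Groth.L23.locP_comp Groth.L23.etLocal_smooth hF' hF
    (IsAlgSpace.yon_obj U) (Groth.L23.locP_of_repWith Groth.L23.etLocal_smooth
      (Groth.L23.repWith_mono (fun φ (hφ : Etale φ) => by infer_instance) (Groth.L23.repWith_of_isIso (P := @Etale) i))) ha)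
    ⟨F, e, he, hP⟩ hE _ (toFp_isEquivOver hg)

/-- The groupoid of an atlas. -/
def atlasArr (hr : AlgSt.RepByAlgSpWith (LocP @Smooth) x) : Arr U where
  E := arSp (x := x) hg h𝒵
  a := srcMap hg h𝒵
  b := tgtMap hg h𝒵
  isAlgSpace := (isAlgSpace_arSp hg h𝒵 hr).1
  smooth := (isAlgSpace_arSp hg h𝒵 hr).2
  comp s t h := arPt hg h𝒵 ((sec hg h𝒵 s).comp (sec hg h𝒵 t) (tgt_eq_src hg h𝒵 h))
  comp_a s t h := by rw [comp_srcMap, comp_srcMap, sec_arPt]; rfl
  comp_b s t h := by rw [comp_tgtMap, comp_tgtMap, sec_arPt]; rfl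
  comp_nat g s t h := sec_inj hg h𝒵 (by
    rw [sec_nat, sec_arPt, sec_arPt, Ar.res_mul hg]
    exact Ar.comp_congr hg (sec_nat hg h𝒵 g s).symm (sec_nat hg h𝒵 g t).symm _)
  one v := arPt hg h𝒵 (Ar.one v)
  one_a v := by rw [comp_srcMap, sec_arPt]; rfl
  one_b v := by rw [comp_tgtMap, sec_arPt]; rfl
  one_nat g v := sec_inj hg h𝒵 (by rw [sec_nat, sec_arPt, sec_arPt, Ar.res_one hg])
  div s t h := arPt hg h𝒵 ((sec hg h𝒵 s).div hg (sec hg h𝒵 t) (src_eq_src hg h𝒵 h))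
  div_a s t h := by rw [comp_srcMap, comp_tgtMap, sec_arPt]; rfl
  div_b s t h := by rw [comp_tgtMap, comp_tgtMap, sec_arPt]; rfl
  div_nat g s t h := sec_inj hg h𝒵 (by
    rw [sec_nat, sec_arPt, sec_arPt, Ar.res_div hg]
    exact Ar.div_congr hg (sec_nat hg h𝒵 g s).symm (sec_nat hg h𝒵 g t).symm _)
  div_comp_div r s t h₁ h₂ := sec_inj hg h𝒵 ((sec_arPt hg h𝒵 _).trans
    (((Ar.comp_congr hg (sec_arPt hg h𝒵 _) (sec_arPt hg h𝒵 _) _).trans
      (Ar.div_comp_div hg _ _ _ _ _)).trans (sec_arPt hg h𝒵 _).symm))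
  eq_div s y h := sec_inj hg h𝒵 ((Ar.eq_div hg _ _ (tgt_eq_src hg h𝒵 h)).trans
    ((Ar.div_congr hg rfl (sec_arPt hg h𝒵 _).symm _).trans (sec_arPt hg h𝒵 _).symm))
  div_one v t h := sec_inj hg h𝒵 ((sec_arPt hg h𝒵 _).trans
    ((Ar.div_congr hg (sec_arPt hg h𝒵 _) rfl _).trans (Ar.div_one hg _ _ _)))
  div_self s v h := sec_inj hg h𝒵 (by
    rw [sec_arPt, sec_arPt]
    exact Ar.div_self hg _ v (by rw [comp_tgtMap] at h; exact (yon S).map_injective h))

end Groth.L24.Multi
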