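import Groth.Agent.L24.Multi.Datum
import Groth.Agent.L24.Boot.LqfEq
import Groth.Agent.L23.OpenCharts
import Groth.Agent.L24.Hensel.SmoothSpace
import Groth.Agent.L24.Boot.EtaleCharts

/-!
Multisections after splitting the cover: a wide product of the arrows.
-/

set_option autoImplicit false
set_option backward.isDefEq.respectTransparency false
set_option backward.isDefEq.respectTransparency.types false

universe u

open CategoryTheory CategoryTheory.Limits AlgebraicGeometry Opposite AlgSp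

noncomputable section

namespace Groth.L24.Multi

variable {S : Scheme.{u}}

/-- A map of sheaves from a natural family of maps on points. -/
def ofPoints {F G : Sp S} (φ : ∀ T : Over S, ((yon S).obj T ⟶ F) → ((yon S).obj T ⟶ G))
    (hφ : ∀ {T T' : Over S} (g : T' ⟶ T) (x : (yon S).obj T ⟶ F), φ T' ((yon S).map g ≫ x) = (yon S).map g ≫ φ T x) :
    F ⟶ G := ObjectProperty.homMk
  { app := fun T => ↾fun s => (AlgSp.J S).uliftYonedaEquiv (φ T.unop ((AlgSp.J S).uliftYonedaEquiv.symm s))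
    naturality := fun T T' g => by
      ext s
      show (AlgSp.J S).uliftYonedaEquiv (φ T'.unop ((AlgSp.J S).uliftYonedaEquiv.symm (F.obj.map g s))) =
        G.obj.map g ((AlgSp.J S).uliftYonedaEquiv (φ T.unop ((AlgSp.J S).uliftYonedaEquiv.symm s)))
      have e : (AlgSp.J S).uliftYonedaEquiv.symm (F.obj.map g s) =
          (yon S).map g.unop ≫ (AlgSp.J S).uliftYonedaEquiv.symm s := by
        apply (AlgSp.J S).uliftYonedaEquiv.injective
        rw [Equiv.apply_symm_apply, ← GrothendieckTopology.uliftYonedaEquiv_naturality, Equiv.apply_symm_apply]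
        rfl
      rw [e, hφ]
      exact ((AlgSp.J S).uliftYonedaEquiv_naturality _ g.unop).symm }

theorem comp_ofPoints {F G : Sp S} (φ : ∀ T : Over S, ((yon S).obj T ⟶ F) → ((yon S).obj T ⟶ G))
    (hφ : ∀ {T T' : Over S} (g : T' ⟶ T) (x : (yon S).obj T ⟶ F), φ T' ((yon S).map g ≫ x) = (yon S).map g ≫ φ T x)
    {T : Over S} (x : (yon S).obj T ⟶ F) : x ≫ ofPoints φ hφ = φ T x := by
  apply (AlgSp.J S).uliftYonedaEquiv.injective
  rw [GrothendieckTopology.uliftYonedaEquiv_comp]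
  show (AlgSp.J S).uliftYonedaEquiv (φ T ((AlgSp.J S).uliftYonedaEquiv.symm ((AlgSp.J S).uliftYonedaEquiv x))) = _
  rw [Equiv.symm_apply_apply]

variable {U : Over S} (A : Arr U)

/-- Wide fibre products of the arrows over the source. -/
theorem exists_wide (n : ℕ) : ∃ (W : Sp S) (p : W ⟶ (yon S).obj U) (pr : Fin n → (W ⟶ A.E)),
    IsAlgSpace W ∧ LocP @Smooth p ∧ (∀ i, pr i ≫ A.a = p) ∧
      ∀ {T : Over S} (v : (yon S).obj T ⟶ (yon S).obj U) (e : Fin n → ((yon S).obj T ⟶ A.E)),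
        (∀ i, e i ≫ A.a = v) → ∃! l : (yon S).obj T ⟶ W, l ≫ p = v ∧ ∀ i, l ≫ pr i = e i := by
  induction n with
  | zero =>
    exact ⟨_, 𝟙 _, Fin.elim0, IsAlgSpace.yon_obj U,
      Groth.L23.locP_of_repWith Groth.L23.etLocal_smooth (Groth.L23.repWith_mono (fun φ (hφ : Etale φ) => by infer_instance) (Groth.L23.repWith_of_isIso (P := @Etale) _)), fun i => i.elim0,
      fun v e _ => ⟨v, ⟨Category.comp_id v, fun i => i.elim0⟩, fun l hl => (Category.comp_id l).symm.trans hl.1⟩⟩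
  | succ n ih =>
    obtain ⟨W, p, pr, hW, hp, hpr, huniv⟩ := ih
    have sq := IsPullback.of_hasPullback p A.a
    refine ⟨pullback p A.a, pullback.fst p A.a ≫ p,
      Fin.cases (pullback.snd p A.a) fun i => pullback.fst p A.a ≫ pr i,
      Groth.L23.isAlgSpace_of_isPullback (IsAlgSpace.yon_obj U).diag hW A.isAlgSpace sq, ?_, ?_, ?_⟩
    · exact Groth.L23.locP_comp Groth.L23.etLocal_smooth
        (Groth.L23.isAlgSpace_of_isPullback (IsAlgSpace.yon_obj U).diag hW A.isAlgSpace sq) hW (IsAlgSpace.yon_obj U)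
        (Groth.L23.locP_of_isPullback Groth.L23.etLocal_smooth A.isAlgSpace (IsAlgSpace.yon_obj U) hW sq.flip A.smooth) hp
    · refine Fin.cases ?_ fun i => ?_
      · exact pullback.condition.symm
      · simp only [Fin.cases_succ, Category.assoc, hpr]
    · intro T v e he
      obtain ⟨l, ⟨hl₁, hl₂⟩, hlu⟩ := huniv v (fun i => e i.succ) fun i => he _
      refine ⟨pullback.lift l (e 0) (by rw [hl₁, he]), ⟨?_, ?_⟩, fun m hm => ?_⟩
      · rw [← Category.assoc, pullback.lift_fst, hl₁]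
      · refine Fin.cases ?_ fun i => ?_
        · exact pullback.lift_snd _ _ _
        · simp only [Fin.cases_succ]
          rw [← Category.assoc, pullback.lift_fst, hl₂]
      · apply pullback.hom_ext
        · rw [pullback.lift_fst]
          refine hlu _ ⟨by rw [Category.assoc]; exact hm.1, fun i => ?_⟩
          have := hm.2 i.succ
          simp only [Fin.cases_succ] at this
          rw [Category.assoc]; exact this
        · rw [pullback.lift_snd]; exact hm.2 0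

variable {P Θ : Over S} (π : P ⟶ Θ)

/-- A cover splitting `π` into disjoint sections. -/
structure Splitting where
  Θ' : Over S
  r : Θ' ⟶ Θ
  etale : Etale r.left
  surj : Surjective r.left
  smooth : Smooth Θ'.hom
  n : ℕ
  sec : Fin (n + 1) → (Θ' ⟶ P)
  sec_π : ∀ i, sec i ≫ π = r
  cover : ∀ {T : Over S} (ψ : T ⟶ Θ') (q : T ⟶ P), q ≫ π = ψ ≫ r → ∀ t : ↥T.left,
    ∃ (O : T.left.Opens), t ∈ O ∧ ∃ i, Groth.L23.openOverι T O ≫ q = Groth.L23.openOverι T O ≫ ψ ≫ sec i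
  disj : ∀ {T : Over S} (ψ : T ⟶ Θ') (i j : Fin (n + 1)), ψ ≫ sec i = ψ ≫ sec j → i ≠ j → IsEmpty ↥T.left

variable {A π} (sp : Splitting π)

namespace Splitting

theorem sec_π' {T : Over S} (ψ : T ⟶ sp.Θ') (i : Fin (sp.n + 1)) : (ψ ≫ sp.sec i) ≫ π = ψ ≫ sp.r := by
  rw [Category.assoc, sp.sec_π]

/-- The sieve where two branches are among the sections. -/
def pairSieve {Z : Over S} (ψ : Z ⟶ sp.Θ') (q₁ q₂ : Z ⟶ P) : Sieve Z where
  arrows Y g := ∃ i j, g ≫ q₁ = g ≫ ψ ≫ sp.sec i ∧ g ≫ q₂ = g ≫ ψ ≫ sp.sec j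
  downward_closed := by
    rintro Y Y' g ⟨i, j, h₁, h₂⟩ k
    exact ⟨i, j, by rw [Category.assoc, h₁, Category.assoc], by rw [Category.assoc, h₂, Category.assoc]⟩

theorem pairSieve_mem {Z : Over S} (ψ : Z ⟶ sp.Θ') (q₁ q₂ : Z ⟶ P) (h₁ : q₁ ≫ π = ψ ≫ sp.r)
    (h₂ : q₂ ≫ π = ψ ≫ sp.r) : sp.pairSieve ψ q₁ q₂ ∈ AlgSp.J S Z := by
  choose O₁ hO₁ i hi using sp.cover ψ q₁ h₁
  choose O₂ hO₂ j hj using sp.cover ψ q₂ h₂
  let g := fun t => Groth.L23.openOverι Z (O₁ t ⊓ O₂ t)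
  have : ∀ t, IsOpenImmersion (g t).left := fun t => inferInstanceAs (IsOpenImmersion (O₁ t ⊓ O₂ t).ι)
  refine GrothendieckTopology.superset_covering _ ?_ (Groth.L23.ofArrows_mem_J g fun t => ⟨t, ⟨t, hO₁ t, hO₂ t⟩, rfl⟩)
  rintro Y k ⟨Y', m, _, ⟨t⟩, rfl⟩
  refine (sp.pairSieve ψ q₁ q₂).downward_closed ⟨i t, j t, ?_, ?_⟩ m
  · let a : Groth.L23.openOver Z (O₁ t ⊓ O₂ t) ⟶ Groth.L23.openOver Z (O₁ t) :=
      Over.homMk (Z.left.homOfLE (inf_le_left : O₁ t ⊓ O₂ t ≤ O₁ t)) (by show _ ≫ (O₁ t).ι ≫ Z.hom = _ ≫ Z.hom; rw [Scheme.homOfLE_ι_assoc])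
    have ha : a ≫ Groth.L23.openOverι Z (O₁ t) = g t := Over.OverMorphism.ext (Scheme.homOfLE_ι _ (inf_le_left : O₁ t ⊓ O₂ t ≤ O₁ t))
    rw [← ha, Category.assoc, hi, Category.assoc]
  · let a : Groth.L23.openOver Z (O₁ t ⊓ O₂ t) ⟶ Groth.L23.openOver Z (O₂ t) :=
      Over.homMk (Z.left.homOfLE (inf_le_right : O₁ t ⊓ O₂ t ≤ O₂ t)) (by show _ ≫ (O₂ t).ι ≫ Z.hom = _ ≫ Z.hom; rw [Scheme.homOfLE_ι_assoc])
    have ha : a ≫ Groth.L23.openOverι Z (O₂ t) = g t := Over.OverMorphism.ext (Scheme.homOfLE_ι _ (inf_le_right : O₁ t ⊓ O₂ t ≤ O₂ t))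
    rw [← ha, Category.assoc, hj, Category.assoc]

/-- The branch indices are unique on non-empty schemes. -/
theorem index_unique {Y : Over S} (ψ : Y ⟶ sp.Θ') {q : Y ⟶ P} {i i' : Fin (sp.n + 1)} (h : q = ψ ≫ sp.sec i)
    (h' : q = ψ ≫ sp.sec i') : i = i' ∨ IsEmpty ↥Y.left := by
  by_cases e : i = i'
  · exact Or.inl e
  · exact Or.inr (sp.disj ψ i i' (h.symm.trans h') e)

end Splitting

/-- The arrows from the first branch, with the unit prepended. -/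
def arrows {T : Over S} {n : ℕ} (v : T ⟶ U) (e : Fin n → ((yon S).obj T ⟶ A.E)) :
    Fin (n + 1) → ((yon S).obj T ⟶ A.E) := Fin.cases (A.one v) e

theorem arrows_a {T : Over S} {n : ℕ} (v : T ⟶ U) (e : Fin n → ((yon S).obj T ⟶ A.E))
    (he : ∀ i, e i ≫ A.a = (yon S).map v) : ∀ i, arrows v e i ≫ A.a = (yon S).map v :=
  Fin.cases (A.one_a v) he

/-- The arrow between two branches determined by the arrows from the first one. -/
theorem exists_value {T : Over S} (ψ : T ⟶ sp.Θ') (E : Fin (sp.n + 1) → ((yon S).obj T ⟶ A.E))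
    (hE : ∀ i j, E i ≫ A.a = E j ≫ A.a) {Z : Over S} (f : Z ⟶ T) (q₁ q₂ : Z ⟶ P)
    (h₁ : q₁ ≫ π = f ≫ ψ ≫ sp.r) (h₂ : q₂ ≫ π = f ≫ ψ ≫ sp.r) :
    ∃! s : (yon S).obj Z ⟶ A.E, ∀ {Y : Over S} (g : Y ⟶ Z) (i j : Fin (sp.n + 1)),
      g ≫ q₁ = (g ≫ f) ≫ ψ ≫ sp.sec i → g ≫ q₂ = (g ≫ f) ≫ ψ ≫ sp.sec j →
      (yon S).map g ≫ s = (yon S).map (g ≫ f) ≫ A.div (E i) (E j) (hE i j) := by
  have key : ∀ {Y : Over S} (g : Y ⟶ Z) (i j i' j' : Fin (sp.n + 1)),
      g ≫ q₁ = (g ≫ f) ≫ ψ ≫ sp.sec i → g ≫ q₂ = (g ≫ f) ≫ ψ ≫ sp.sec j →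
      g ≫ q₁ = (g ≫ f) ≫ ψ ≫ sp.sec i' → g ≫ q₂ = (g ≫ f) ≫ ψ ≫ sp.sec j' →
      (yon S).map (g ≫ f) ≫ A.div (E i) (E j) (hE i j) = (yon S).map (g ≫ f) ≫ A.div (E i') (E j') (hE i' j') := by
    intro Y g i j i' j' e₁ e₂ e₁' e₂'
    rw [← Category.assoc] at e₁ e₂ e₁' e₂'
    rcases sp.index_unique _ e₁ e₁' with rfl | hY
    · rcases sp.index_unique _ e₂ e₂' with rfl | hY
      · rfl
      · exact Groth.L24.Boot.hom_ext_of_isEmpty hY
    · exact Groth.L24.Boot.hom_ext_of_isEmpty hY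
  have hmem : ∀ {Y : Over S} (g : Y ⟶ Z), sp.pairSieve (f ≫ ψ) q₁ q₂ g →
      ∃ i j, g ≫ q₁ = (g ≫ f) ≫ ψ ≫ sp.sec i ∧ g ≫ q₂ = (g ≫ f) ≫ ψ ≫ sp.sec j := by
    rintro Y g ⟨i, j, e₁, e₂⟩
    exact ⟨i, j, by simpa using e₁, by simpa using e₂⟩
  have hm := sp.pairSieve_mem (f ≫ ψ) q₁ q₂ (by rw [h₁, Category.assoc]) (by rw [h₂, Category.assoc])
  choose ci cj hci hcj using @hmem
  obtain ⟨s, hs, hsu⟩ := Groth.L23.UHPush.existsUnique_glueSieve hm
    (fun Y g hg => (yon S).map (g ≫ f) ≫ A.div (E (ci g hg)) (E (cj g hg)) (hE _ _)) fun Y Y' g hg k => by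
      rw [← Category.assoc, ← Functor.map_comp, ← Category.assoc]
      exact key (k ≫ g) _ _ _ _ (by rw [Category.assoc, hci g hg]; simp) (by rw [Category.assoc, hcj g hg]; simp)
        (hci _ _) (hcj _ _)
  refine ⟨s, fun {Y} g i j e₁ e₂ => ?_, fun s' hs' => hsu s' fun Y g hg => hs' g _ _ (hci g hg) (hcj g hg)⟩
  have hg : sp.pairSieve (f ≫ ψ) q₁ q₂ g := ⟨i, j, by simpa using e₁, by simpa using e₂⟩
  rw [hs g hg]
  exact key g _ _ _ _ (hci g hg) (hcj g hg) e₁ e₂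

/-- Data are determined by their arrows from the first branch. -/
theorem δ_value {T : Over S} (D : Datum A π T) (ψ : T ⟶ sp.Θ') (h : D.θ = ψ ≫ sp.r)
    (E : Fin (sp.n + 1) → ((yon S).obj T ⟶ A.E))
    (hE : ∀ i, E i = D.δ (𝟙 T) (ψ ≫ sp.sec 0) (ψ ≫ sp.sec i) (by rw [sp.sec_π', h, Category.id_comp]) (by rw [sp.sec_π', h, Category.id_comp]))
    (hE' : ∀ i j, E i ≫ A.a = E j ≫ A.a) {Z : Over S} (f : Z ⟶ T) (q₁ q₂ : Z ⟶ P)
    (h₁ : q₁ ≫ π = f ≫ D.θ) (h₂ : q₂ ≫ π = f ≫ D.θ) {Y : Over S} (g : Y ⟶ Z) (i j : Fin (sp.n + 1))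
    (e₁ : g ≫ q₁ = (g ≫ f) ≫ ψ ≫ sp.sec i) (e₂ : g ≫ q₂ = (g ≫ f) ≫ ψ ≫ sp.sec j) :
    (yon S).map g ≫ D.δ f q₁ q₂ h₁ h₂ = (yon S).map (g ≫ f) ≫ A.div (E i) (E j) (hE' i j) := by
  have hp : ∀ k, (ψ ≫ sp.sec k) ≫ π = 𝟙 T ≫ D.θ := fun k => by rw [sp.sec_π', h, Category.id_comp]
  rw [A.div_congr (hE i) (hE j), ← D.δ_eq_div (𝟙 T) _ _ _ (hp 0) (hp i) (hp j), ← D.nat, ← D.nat]
  exact D.δ_congr (Category.comp_id _).symm e₁ e₂ _ _

/-- The datum with given arrows from the first branch. -/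
theorem exists_datum {T : Over S} (ψ : T ⟶ sp.Θ') (v : T ⟶ U) (e : Fin sp.n → ((yon S).obj T ⟶ A.E))
    (he : ∀ i, e i ≫ A.a = (yon S).map v) :
    ∃ D : Datum A π T, ∃ h : D.θ = ψ ≫ sp.r, ∀ i, D.δ (𝟙 T) (ψ ≫ sp.sec 0) (ψ ≫ sp.sec i)
      (by rw [sp.sec_π', h, Category.id_comp]) (by rw [sp.sec_π', h, Category.id_comp]) = arrows v e i := by
  let E := arrows v e
  have hE : ∀ i j, E i ≫ A.a = E j ≫ A.a := fun i j => (arrows_a v e he i).trans (arrows_a v e he j).symm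
  choose δ hδ hδu using fun {Z : Over S} (f : Z ⟶ T) (q₁ q₂ : Z ⟶ P) (h₁ : q₁ ≫ π = f ≫ ψ ≫ sp.r)
    (h₂ : q₂ ≫ π = f ≫ ψ ≫ sp.r) => exists_value sp ψ E hE f q₁ q₂ h₁ h₂
  let D : Datum A π T :=
    { θ := ψ ≫ sp.r
      δ := fun f q₁ q₂ h₁ h₂ => δ f q₁ q₂ h₁ h₂
      nat := fun k f q₁ q₂ h₁ h₂ => (hδu _ _ _ _ _ _ fun g i j e₁ e₂ => by
        rw [← Category.assoc, ← Functor.map_comp, hδ f q₁ q₂ h₁ h₂ (g ≫ k) i j (by simpa using e₁) (by simpa using e₂)]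
        simp only [Category.assoc]).symm
      cocycle := fun {Z} f q₁ q₂ q₃ h₁ h₂ h₃ => by
        have hm := (AlgSp.J S).intersection_covering
          (sp.pairSieve_mem (f ≫ ψ) q₁ q₂ (by rw [h₁, Category.assoc]) (by rw [h₂, Category.assoc]))
          (sp.pairSieve_mem (f ≫ ψ) q₂ q₃ (by rw [h₂, Category.assoc]) (by rw [h₃, Category.assoc]))
        have key : ∀ {Y : Over S} (g : Y ⟶ Z),
            (sp.pairSieve (f ≫ ψ) q₁ q₂ ⊓ sp.pairSieve (f ≫ ψ) q₂ q₃) g → ∃ i j k,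
            (yon S).map g ≫ δ f q₁ q₂ h₁ h₂ = (yon S).map (g ≫ f) ≫ A.div (E i) (E j) (hE i j) ∧
            (yon S).map g ≫ δ f q₂ q₃ h₂ h₃ = (yon S).map (g ≫ f) ≫ A.div (E j) (E k) (hE j k) ∧
            (yon S).map g ≫ δ f q₁ q₃ h₁ h₃ = (yon S).map (g ≫ f) ≫ A.div (E i) (E k) (hE i k) := by
          rintro Y g ⟨⟨i, j, e₁, e₂⟩, ⟨j', k, e₂', e₃⟩⟩
          have c : ∀ {q : Z ⟶ P} {i : Fin (sp.n + 1)}, g ≫ q = g ≫ (f ≫ ψ) ≫ sp.sec i → g ≫ q = (g ≫ f) ≫ ψ ≫ sp.sec i :=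
            fun h => by simpa using h
          rcases sp.index_unique ((g ≫ f) ≫ ψ) ((c e₂).trans (Category.assoc _ _ _).symm)
            ((c e₂').trans (Category.assoc _ _ _).symm) with rfl | hY
          · exact ⟨i, j, k, hδ _ _ _ _ _ g i j (c e₁) (c e₂), hδ _ _ _ _ _ g j k (c e₂) (c e₃),
              hδ _ _ _ _ _ g i k (c e₁) (c e₃)⟩
          · exact ⟨i, j, k, Groth.L24.Boot.hom_ext_of_isEmpty hY, Groth.L24.Boot.hom_ext_of_isEmpty hY,
              Groth.L24.Boot.hom_ext_of_isEmpty hY⟩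
        have e₀ : δ f q₁ q₂ h₁ h₂ ≫ A.b = δ f q₂ q₃ h₂ h₃ ≫ A.a :=
          Groth.L23.UHPush.hom_ext_sieve hm fun Y g hg => by
            obtain ⟨i, j, k, k₁, k₂, -⟩ := key g hg
            rw [← Category.assoc, ← Category.assoc, k₁, k₂, Category.assoc, Category.assoc]
            exact congrArg _ ((A.div_b _ _ _).trans (A.div_a _ _ _).symm)
        refine ⟨e₀, Groth.L23.UHPush.hom_ext_sieve hm fun Y g hg => ?_⟩
        obtain ⟨i, j, k, k₁, k₂, k₃⟩ := key g hg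
        rw [A.comp_nat, k₃, A.comp_congr k₁ k₂, ← A.comp_nat]
        · rw [A.div_comp_div]
        · exact (A.div_b _ _ _).trans (A.div_a _ _ _).symm }
  refine ⟨D, rfl, fun i => ?_⟩
  have h := hδ (𝟙 T) (ψ ≫ sp.sec 0) (ψ ≫ sp.sec i) (by rw [sp.sec_π', Category.id_comp])
    (by rw [sp.sec_π', Category.id_comp]) (𝟙 T) 0 i (by simp) (by simp)
  rw [Category.comp_id, (yon S).map_id] at h
  replace h := h.trans (Category.id_comp _)
  replace h := (Category.id_comp _).symm.trans h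
  exact h.trans (A.div_one v _ ((arrows_a v e he 0).trans (arrows_a v e he i).symm))

variable (A)

/-- The arrows from the first branch of a point of the split sheaf. -/
theorem exists_split_space : ∃ (W : Sp S) (P' : Sp S) (π₁ : P' ⟶ (yon S).obj sp.Θ') (π₂ : P' ⟶ W),
    IsAlgSpace P' ∧ ∃ (p : W ⟶ (yon S).obj U) (pr : Fin sp.n → (W ⟶ A.E)), LocP @Smooth (π₂ ≫ p) ∧
      (∀ i, pr i ≫ A.a = p) ∧
      (∀ {T : Over S} (ψ : (yon S).obj T ⟶ (yon S).obj sp.Θ') (v : (yon S).obj T ⟶ (yon S).obj U)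
        (e : Fin sp.n → ((yon S).obj T ⟶ A.E)), (∀ i, e i ≫ A.a = v) →
        ∃! l : (yon S).obj T ⟶ P', l ≫ π₁ = ψ ∧ l ≫ π₂ ≫ p = v ∧ ∀ i, l ≫ π₂ ≫ pr i = e i) := by
  obtain ⟨W, p, pr, hW, hp, hpr, huniv⟩ := exists_wide A sp.n
  let one := Groth.L24.Hensel.isTerminalYonBase S
  have h1 : IsAlgSpace ((yon S).obj (Over.mk (𝟙 S))) := IsAlgSpace.yon_obj _
  have sq := IsPullback.of_hasPullback (one.from ((yon S).obj sp.Θ')) (one.from W)
  have hP := Groth.L23.isAlgSpace_of_isPullback h1.diag (IsAlgSpace.yon_obj sp.Θ') hW sq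
  have hθ : one.from ((yon S).obj sp.Θ') = (yon S).map (Over.mkIdTerminal.from sp.Θ') := one.hom_ext _ _
  have hsm : LocP @Smooth (one.from ((yon S).obj sp.Θ')) := by
    rw [hθ]
    refine Groth.L23.locP_of_repWith Groth.L23.etLocal_smooth (Groth.L23.repWith_map ?_)
    have : (Over.mkIdTerminal.from sp.Θ').left = sp.Θ'.hom :=
      (Category.comp_id _).symm.trans (Over.w (Over.mkIdTerminal.from sp.Θ'))
    rw [this]; exact sp.smooth
  refine ⟨W, _, pullback.fst _ _, pullback.snd _ _, hP, p, pr, Groth.L23.locP_comp Groth.L23.etLocal_smooth hP hW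
    (IsAlgSpace.yon_obj U) (Groth.L23.locP_of_isPullback Groth.L23.etLocal_smooth (IsAlgSpace.yon_obj _) h1 hW sq hsm) hp,
    hpr, fun {T} ψ v e he => ?_⟩
  obtain ⟨l, ⟨hl₁, hl₂⟩, hlu⟩ := huniv v e he
  refine ⟨pullback.lift ψ l (one.hom_ext _ _), ⟨pullback.lift_fst _ _ _, ?_, fun i => ?_⟩, fun m hm => ?_⟩
  · rw [← Category.assoc, pullback.lift_snd, hl₁]
  · rw [← Category.assoc, pullback.lift_snd, hl₂]
  · apply pullback.hom_ext
    · rw [pullback.lift_fst]; exact hm.1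
    · rw [pullback.lift_snd]
      exact hlu _ ⟨by rw [Category.assoc]; exact hm.2.1, fun i => by rw [Category.assoc]; exact hm.2.2 i⟩

/-- Data over a split cover agree as soon as their arrows from the first branch agree. -/
theorem datum_ext_split {T : Over S} (D D' : Datum A π T) (ψ : T ⟶ sp.Θ') (h : D.θ = ψ ≫ sp.r) (h' : D'.θ = ψ ≫ sp.r)
    (hE : ∀ (i : Fin (sp.n + 1)) (e₀ : _) (e₁ : _) (e₀' : _) (e₁' : _),
      D.δ (𝟙 T) (ψ ≫ sp.sec 0) (ψ ≫ sp.sec i) e₀ e₁ = D'.δ (𝟙 T) (ψ ≫ sp.sec 0) (ψ ≫ sp.sec i) e₀' e₁') : D = D' := by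
  refine Datum.ext' (h.trans h'.symm) fun {Z} f q₁ q₂ h₁ h₂ h₁' h₂' => ?_
  have hm := sp.pairSieve_mem (f ≫ ψ) q₁ q₂ (by rw [h₁, h, Category.assoc]) (by rw [h₂, h, Category.assoc])
  refine Groth.L23.UHPush.hom_ext_sieve hm fun Y g hg => ?_
  obtain ⟨i, j, e₁, e₂⟩ := hg
  rw [δ_value sp D ψ h _ (fun i => rfl) (fun i j => (Datum.δ_a _ _ _ _ _ _).trans (Datum.δ_a _ _ _ _ _ _).symm)
      f q₁ q₂ h₁ h₂ g i j (by simpa using e₁) (by simpa using e₂),
    δ_value sp D' ψ h' _ (fun i => rfl) (fun i j => (Datum.δ_a _ _ _ _ _ _).trans (Datum.δ_a _ _ _ _ _ _).symm)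
      f q₁ q₂ h₁' h₂' g i j (by simpa using e₁) (by simpa using e₂)]
  congr 1
  exact A.div_congr (hE i _ _ _ _) (hE j _ _ _ _) _

variable (π)

variable {G' : Sp S} {q₁ : G' ⟶ multi A π} {q₂ : G' ⟶ (yon S).obj sp.Θ'}
  (sq : IsPullback q₁ q₂ (param A π) ((yon S).map sp.r))

include sq in
theorem split_condition {T : Over S} (x : (yon S).obj T ⟶ G') :
    (homEquiv A π T (x ≫ q₁)).θ = (yon S).preimage (x ≫ q₂) ≫ sp.r := by
  apply (yon S).map_injective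
  rw [← comp_param, Functor.map_comp, Functor.map_preimage, Category.assoc, Category.assoc, sq.w]

include sq in
theorem hsec {T : Over S} (x : (yon S).obj T ⟶ G') (i : Fin (sp.n + 1)) :
    ((yon S).preimage (x ≫ q₂) ≫ sp.sec i) ≫ π = 𝟙 T ≫ (homEquiv A π T (x ≫ q₁)).θ := by
  rw [sp.sec_π', Category.id_comp]; exact (split_condition A π sp sq x).symm

theorem δ_restrict {T T' : Over S} (g : T' ⟶ T) {D : Datum A π T} {D' : Datum A π T'} (e : D' = Datum.restrict g D)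
    {a b : T ⟶ P} {a' b' : T' ⟶ P} (ha : a' = g ≫ a) (hb : b' = g ≫ b) (h₁ : a' ≫ π = 𝟙 T' ≫ D'.θ)
    (h₂ : b' ≫ π = 𝟙 T' ≫ D'.θ) (k₁ : a ≫ π = 𝟙 T ≫ D.θ) (k₂ : b ≫ π = 𝟙 T ≫ D.θ) :
    D'.δ (𝟙 T') a' b' h₁ h₂ = (yon S).map g ≫ D.δ (𝟙 T) a b k₁ k₂ := by
  subst e ha hb
  rw [← D.nat]
  exact D.δ_congr ((Category.id_comp g).trans (Category.comp_id g).symm) rfl rfl _ _

include sq in
theorem δ_nat {T T' : Over S} (g : T' ⟶ T) (x : (yon S).obj T ⟶ G') (i j : Fin (sp.n + 1)) :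
    (homEquiv A π T' (((yon S).map g ≫ x) ≫ q₁)).δ (𝟙 T') _ _ (hsec A π sp sq ((yon S).map g ≫ x) i)
        (hsec A π sp sq ((yon S).map g ≫ x) j) =
      (yon S).map g ≫ (homEquiv A π T (x ≫ q₁)).δ (𝟙 T) _ _ (hsec A π sp sq x i) (hsec A π sp sq x j) := by
  have hψ : (yon S).preimage (((yon S).map g ≫ x) ≫ q₂) = g ≫ (yon S).preimage (x ≫ q₂) :=
    (yon S).map_injective (by rw [Functor.map_preimage, Functor.map_comp, Functor.map_preimage, Category.assoc])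
  exact δ_restrict A π g ((congrArg _ (Category.assoc _ _ _)).trans (homEquiv_comp A π g _))
    (by rw [hψ, Category.assoc]) (by rw [hψ, Category.assoc]) _ _ _ _

include sq in
/-- The split sheaf is an algebraic space, smooth over the scheme. -/
theorem exists_split_iso : IsAlgSpace G' ∧
    ∃ v : G' ⟶ (yon S).obj U, LocP @Smooth v ∧
      ∀ {T : Over S} (x : (yon S).obj T ⟶ G'),
        x ≫ v = (yon S).map ((homEquiv A π T (x ≫ q₁)).pt (𝟙 T) _ (hsec A π sp sq x 0)) := by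
  obtain ⟨W, P', π₁, π₂, hP, p, pr, hsm, hpr, huniv⟩ := exists_split_space A sp
  choose l hl hlu using fun {T : Over S} (x : (yon S).obj T ⟶ G') =>
    huniv (x ≫ q₂) ((yon S).map ((homEquiv A π T (x ≫ q₁)).pt (𝟙 T) _ (hsec A π sp sq x 0)))
      (fun i => (homEquiv A π T (x ≫ q₁)).δ (𝟙 T) _ _ (hsec A π sp sq x 0) (hsec A π sp sq x i.succ))
      fun i => Datum.δ_a _ _ _ _ _ _
  let Φ : G' ⟶ P' := ofPoints (fun T x => l x) fun {T T'} g x =>
    (hlu _ _ ⟨by rw [Category.assoc, (hl x).1, Category.assoc],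
      by rw [Category.assoc, (hl x).2.1, Datum.map_pt, Datum.map_pt, δ_nat A π sp sq, Category.assoc],
      fun i => by rw [Category.assoc, (hl x).2.2, δ_nat A π sp sq]⟩).symm
  have hΦ : ∀ {T : Over S} (x : (yon S).obj T ⟶ G'), x ≫ Φ = l x := fun x => comp_ofPoints _ _ x
  have hinj : ∀ (T : Over S) (x x' : (yon S).obj T ⟶ G'), x ≫ Φ = x' ≫ Φ → x = x' := fun T x x' hxx => by
    rw [hΦ, hΦ] at hxx
    have e1 : x ≫ q₂ = x' ≫ q₂ := by rw [← (hl x).1, hxx, (hl x').1]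
    refine sq.hom_ext ((homEquiv A π T).injective ?_) e1
    refine datum_ext_split A sp _ _ ((yon S).preimage (x ≫ q₂)) (split_condition A π sp sq x)
      ((split_condition A π sp sq x').trans (by rw [e1])) fun i e₀ e₁ e₀' e₁' => ?_
    have e2 : ∀ k, (yon S).preimage (x ≫ q₂) ≫ sp.sec k = (yon S).preimage (x' ≫ q₂) ≫ sp.sec k := fun k => by rw [e1]
    refine Eq.trans ?_ (Datum.δ_congr _ rfl (e2 0).symm (e2 i).symm (hsec A π sp sq x' 0) (hsec A π sp sq x' i))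
    induction i using Fin.cases with
    | zero =>
      rw [Datum.δ_self, Datum.δ_self]
      congr 1
      exact (yon S).map_injective (by rw [← (hl x).2.1, hxx, (hl x').2.1])
    | succ i => rw [← (hl x).2.2 i, hxx, (hl x').2.2 i]
  have hsurj : ∀ (T : Over S) (y : (yon S).obj T ⟶ P'), ∃ x, x ≫ Φ = y := fun T y => by
    let ψ := (yon S).preimage (y ≫ π₁)
    let v := (yon S).preimage (y ≫ π₂ ≫ p)
    obtain ⟨D, hθ, hDE⟩ := exists_datum sp ψ v (fun i => y ≫ π₂ ≫ pr i) fun i => by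
      rw [Functor.map_preimage, Category.assoc, Category.assoc, hpr]
    have hc : (homEquiv A π T).symm D ≫ param A π = (yon S).map ψ ≫ (yon S).map sp.r := by
      rw [comp_param, Equiv.apply_symm_apply, hθ, Functor.map_comp]
    obtain ⟨x, hx₁, hx₂⟩ : ∃ x, x ≫ q₁ = (homEquiv A π T).symm D ∧ x ≫ q₂ = (yon S).map ψ :=
      ⟨sq.lift _ _ hc, sq.lift_fst _ _ hc, sq.lift_snd _ _ hc⟩
    refine ⟨x, ?_⟩
    rw [hΦ]
    have hd : homEquiv A π T (x ≫ q₁) = D := by rw [hx₁, Equiv.apply_symm_apply]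
    have hs : ∀ k, (yon S).preimage (x ≫ q₂) ≫ sp.sec k = ψ ≫ sp.sec k := fun k => by
      rw [hx₂, (yon S).preimage_map]
    refine (hlu _ _ ⟨?_, ?_, fun i => ?_⟩).symm
    · rw [hx₂, Functor.map_preimage]
    · rw [Datum.map_pt, Datum.congr_δ hd, Datum.δ_congr D rfl (hs 0) (hs 0), hDE 0]
      exact ((A.one_a v).trans (Functor.map_preimage _ _)).symm
    · rw [Datum.congr_δ hd, Datum.δ_congr D rfl (hs 0) (hs i.succ), hDE i.succ]
      rfl
  have : IsIso Φ := Groth.L23.UHPush.isIso_of_yon Φ hinj hsurj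
  have he : RepWith @Etale Φ := Groth.L23.repWith_of_isIso Φ
  have hA : IsAlgSpace G' := Groth.L23.isAlgSpace_of_representable_to hP he.1
  refine ⟨hA, Φ ≫ π₂ ≫ p, Groth.L23.locP_comp Groth.L23.etLocal_smooth hA hP (IsAlgSpace.yon_obj U)
      (Groth.L23.locP_of_repWith Groth.L23.etLocal_smooth
        (Groth.L23.repWith_mono (fun φ (hφ : Etale φ) => by infer_instance) he)) hsm, fun x => ?_⟩
  rw [← Category.assoc, hΦ]
  exact (hl x).2.1

/-- The sheaf of multisections of a split cover is an algebraic space. -/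
theorem isAlgSpace_multi (sp : Splitting π) : IsAlgSpace (multi A π) :=
  have sq := IsPullback.of_hasPullback (param A π) ((yon S).map sp.r)
  Groth.L24.Boot.isAlgSpace_of_repWith_etale (exists_split_iso A π sp sq).1 (pullback.fst _ _)
    (Groth.L23.repWith_of_isPullback sq.flip (Groth.L23.repWith_map sp.etale))
    (Groth.L23.repWith_of_isPullback sq.flip (Groth.L23.repWith_map sp.surj))

end Groth.L24.Multi
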