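import Groth.Agent.L24.Multi.Descent
import Groth.Agent.L24.Multi.Split
import Groth.Agent.L24.LocQ.Descent
import Groth.Agent.L09.Stack.CompSource
import Groth.Agent.L09.FieldPt.Basic
import Groth.Agent.L23.SpaceSmoothDesc
import Groth.Agent.L24.St.Bootstrap2
import Groth.Agent.L24.Hensel.StackLift

/-!
Etale charts of the multisection sheaf give smooth charts of the stack.
-/

set_option autoImplicit false
set_option backward.isDefEq.respectTransparency false
set_option backward.isDefEq.respectTransparency.types false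

universe u

open CategoryTheory CategoryTheory.Limits AlgebraicGeometry Opposite AlgSp

noncomputable section

namespace Groth.L24.Multi

open Groth.L24.St

variable {S : Scheme.{u}} {𝒵 : AlgSt.Cat S} {U : Over S} {x : FibCat.overCat U ⥤ᵇ 𝒵}

/-- The arrows of an atlas of an algebraic stack. -/
abbrev stArr (h : AlgSt.IsAlgStack Scheme.fppfPrecoverage 𝒵) (hr : AlgSt.RepByAlgSpWith (LocP @Smooth) x) : Arr U :=
  atlasArr (x := x) h.isStack.1 h.isStack hr

variable (h : AlgSt.IsAlgStack Scheme.fppfPrecoverage 𝒵) (hr : AlgSt.RepByAlgSpWith (LocP @Smooth) x)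
  {P Θ : Over S} {π : P ⟶ Θ}

/-- A functor realising the datum of a point of the multisection sheaf. -/
abbrev RealizesPt {T : Over S} (g : (yon S).obj T ⟶ multi (stArr h hr) π) (y : FibCat.overCat T ⥤ᵇ 𝒵) : Prop :=
  Realizes h.isStack.1 h.isStack hr (homEquiv (stArr h hr) π T g) y

/-- An etale chart of the multisection sheaf is smooth over the stack. -/
theorem exists_smooth_chart [Etale π.left] [Surjective π.left] (sp : Splitting π) {M : Over S}
    (g : (yon S).obj M ⟶ multi (stArr h hr) π) (hge : RepWith @Etale g) :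
    ∃ p : FibCat.overCat M ⥤ᵇ 𝒵, RealizesPt h hr g p ∧ AlgSt.RepByAlgSpWith (LocP @Smooth) p := by
  obtain ⟨p, hp⟩ := exists_realizes h.isStack.1 h.isStack hr (homEquiv (stArr h hr) π M g)
  refine ⟨p, hp, ?_⟩
  have sqG := IsPullback.of_hasPullback (param (stArr h hr) π) ((yon S).map sp.r)
  obtain ⟨hG, v, hv, hvx⟩ := exists_split_iso (stArr h hr) π sp sqG
  have hfe : RepWith @Etale (pullback.fst (param (stArr h hr) π) ((yon S).map sp.r)) :=
    Groth.L23.repWith_of_isPullback sqG.flip (Groth.L23.repWith_map sp.etale)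
  have hfs : RepWith @Surjective (pullback.fst (param (stArr h hr) π) ((yon S).map sp.r)) :=
    Groth.L23.repWith_of_isPullback sqG.flip (Groth.L23.repWith_map sp.surj)
  obtain ⟨M', m, g', sq⟩ := hfe.1 g
  have hme : Etale m.left := Groth.L23.repWith_prop hfe sq
  have hms : Surjective m.left := Groth.L23.repWith_prop hfs sq
  have hg'e : RepWith @Etale g' := Groth.L23.repWith_of_isPullback sq.flip hge
  let ψ := (yon S).preimage (g' ≫ pullback.snd (param (stArr h hr) π) ((yon S).map sp.r))
  let E' := homEquiv (stArr h hr) π M' (g' ≫ pullback.fst (param (stArr h hr) π) ((yon S).map sp.r))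
  have hE' : Realizes h.isStack.1 h.isStack hr E' (BasedFunctor.comp (AlgSt.overMap m) p) := by
    have := realizes_restrict h.isStack.1 h.isStack hr m hp
    rw [← homEquiv_comp] at this
    rw [show E' = homEquiv (stArr h hr) π M' ((yon S).map m ≫ g) from congrArg (fun t => homEquiv (stArr h hr) π M' t) sq.w]
    exact this
  let w := E'.pt (𝟙 M') (ψ ≫ sp.sec 0) (hsec (stArr h hr) π sp sqG g' 0)
  have hw : g' ≫ v = (yon S).map w := hvx g'
  have hws : Smooth w.left := by
    refine prop_of_locP_map (P := @Smooth) ?_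
    rw [← hw]
    exact Groth.L23.locP_comp Groth.L23.etLocal_smooth (IsAlgSpace.yon_obj M') hG (IsAlgSpace.yon_obj U)
      (Groth.L23.locP_of_repWith Groth.L23.etLocal_smooth
        (Groth.L23.repWith_mono (fun φ (hφ : Etale φ) => by infer_instance) hg'e)) hv
  obtain ⟨i⟩ := realizes_branch h.isStack.1 h.isStack hr hE' (𝟙 M') (ψ ≫ sp.sec 0)
    (hsec (stArr h hr) π sp sqG g' 0)
  have i' : BasedFunctor.comp (AlgSt.overMap m) p ≅ BasedFunctor.comp (AlgSt.overMap w) x :=
    (whiskerR (Groth.L24.Hensel.overMapIdIso M') (BasedFunctor.comp (AlgSt.overMap m) p)).symm ≪≫ i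
  have hcomp : AlgSt.RepByAlgSpWith (LocP @Smooth) (BasedFunctor.comp (AlgSt.overMap m) p) :=
    (repWith_congr i').2 (repWith_comp_locP Groth.L23.etLocal_smooth (overCat_isFibGrpd M') (overCat_isFibGrpd U)
      (smooth_overMap w) hr)
  have hm1 : AlgSt.RepByAlgSpWith (LocP @Smooth) (AlgSt.overMap m) := by
    have : Smooth m.left := inferInstance
    exact smooth_overMap m
  have hm2 : AlgSt.RepByAlgSpWith AlgSp.IsSurjectiveMor (AlgSt.overMap m) :=
    St.repWith_mono (fun _ _ _ _ ha => Groth.L23.surjective_map_of_repWith ha) (repWith_overMap (R := @Surjective) hms)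
  exact Groth.L09.Stack.repWith_of_comp_left (τ := AlgSp.IsSmCover) (pBase_locP Groth.L23.etLocal_smooth)
    Groth.L23.isLocalOnSource_smooth_locP_smooth (Q := AlgSp.LocP @Smooth ⊓ AlgSp.IsSurjectiveMor)
    (fun _ _ a ha => ⟨fun _ => ha.1, fun q => ⟨⟨⟩, ha.2 q⟩⟩)
    (fun _ hG' z => Groth.L09.Stack.exists_space_locP Groth.L23.etLocal_smooth (overCat_isFibGrpd M')
      (overCat_isFibGrpd M) hm1 hm2 hG' z)
    (Groth.L09.FieldPt.rep1_overCat h p) hcomp

/-- A lift of a point realises it. -/
theorem iso_of_lift [Etale π.left] [Surjective π.left] {M T : Over S} {g : (yon S).obj M ⟶ multi (stArr h hr) π}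
    {p : FibCat.overCat M ⥤ᵇ 𝒵} (hp : RealizesPt h hr g p) {E : Datum (stArr h hr) π T} {y : FibCat.overCat T ⥤ᵇ 𝒵}
    (hy : Realizes h.isStack.1 h.isStack hr E y) (m : T ⟶ M)
    (hm : (yon S).map m ≫ g = (homEquiv (stArr h hr) π T).symm E) :
    Nonempty (BasedFunctor.comp (AlgSt.overMap m) p ≅ y) := by
  have := realizes_restrict h.isStack.1 h.isStack hr m hp
  rw [← homEquiv_comp, hm, Equiv.apply_symm_apply] at this
  exact realizes_unique h.isStack.1 h.isStack hr this hy

end Groth.L24.Multi
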