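import Groth.Agent.L24.Multi.Arrows
import Groth.Agent.L23.UHPush
import Groth.Agent.L23.NormSheaf

/-!
The sheaf of multisections of a groupoid of arrows over a finite etale cover.
-/

set_option autoImplicit false
set_option backward.isDefEq.respectTransparency false
set_option backward.isDefEq.respectTransparency.types false

universe u

open CategoryTheory CategoryTheory.Limits AlgebraicGeometry Opposite AlgSp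

noncomputable section

namespace Groth.L24.Multi

variable {S : Scheme.{u}} {U : Over S} (A : Arr U) {P Θ : Over S} (π : P ⟶ Θ)

/-- A coherent system of arrows between the branches of the cover over `T`. -/
structure Datum (T : Over S) where
  θ : T ⟶ Θ
  δ : ∀ {Z : Over S} (f : Z ⟶ T) (q₁ q₂ : Z ⟶ P), q₁ ≫ π = f ≫ θ → q₂ ≫ π = f ≫ θ → ((yon S).obj Z ⟶ A.E)
  nat : ∀ {Z Z' : Over S} (k : Z' ⟶ Z) (f : Z ⟶ T) (q₁ q₂ : Z ⟶ P) (h₁ : q₁ ≫ π = f ≫ θ) (h₂ : q₂ ≫ π = f ≫ θ),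
    δ (k ≫ f) (k ≫ q₁) (k ≫ q₂) (by rw [Category.assoc, h₁, Category.assoc])
      (by rw [Category.assoc, h₂, Category.assoc]) = (yon S).map k ≫ δ f q₁ q₂ h₁ h₂
  cocycle : ∀ {Z : Over S} (f : Z ⟶ T) (q₁ q₂ q₃ : Z ⟶ P) (h₁ : q₁ ≫ π = f ≫ θ) (h₂ : q₂ ≫ π = f ≫ θ)
    (h₃ : q₃ ≫ π = f ≫ θ), ∃ e : δ f q₁ q₂ h₁ h₂ ≫ A.b = δ f q₂ q₃ h₂ h₃ ≫ A.a,
      A.comp (δ f q₁ q₂ h₁ h₂) (δ f q₂ q₃ h₂ h₃) e = δ f q₁ q₃ h₁ h₃

variable {A π}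

namespace Datum

theorem ext' {T : Over S} {D D' : Datum A π T} (hθ : D.θ = D'.θ)
    (hδ : ∀ {Z : Over S} (f : Z ⟶ T) (q₁ q₂ : Z ⟶ P) (h₁ : q₁ ≫ π = f ≫ D.θ) (h₂ : q₂ ≫ π = f ≫ D.θ)
      (h₁' : q₁ ≫ π = f ≫ D'.θ) (h₂' : q₂ ≫ π = f ≫ D'.θ), D.δ f q₁ q₂ h₁ h₂ = D'.δ f q₁ q₂ h₁' h₂') :
    D = D' := by
  cases D with
  | mk θ δ n c =>
    cases D' with
    | mk θ' δ' n' c' =>
      cases hθ
      congr 1
      funext Z f q₁ q₂ h₁ h₂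
      exact hδ f q₁ q₂ h₁ h₂ h₁ h₂

theorem δ_congr {T : Over S} (D : Datum A π T) {Z : Over S} {f f' : Z ⟶ T} {q₁ q₁' q₂ q₂' : Z ⟶ P}
    (hf : f = f') (hq₁ : q₁ = q₁') (hq₂ : q₂ = q₂') (h₁ : q₁ ≫ π = f ≫ D.θ) (h₂ : q₂ ≫ π = f ≫ D.θ) :
    D.δ f q₁ q₂ h₁ h₂ = D.δ f' q₁' q₂' (hq₁ ▸ hf ▸ h₁) (hq₂ ▸ hf ▸ h₂) := by
  subst hf hq₁ hq₂; rfl

theorem congr_δ {T : Over S} {D D' : Datum A π T} (e : D = D') {Z : Over S} (f : Z ⟶ T) (q₁ q₂ : Z ⟶ P)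
    (h₁ : q₁ ≫ π = f ≫ D.θ) (h₂ : q₂ ≫ π = f ≫ D.θ) :
    D.δ f q₁ q₂ h₁ h₂ = D'.δ f q₁ q₂ (e ▸ h₁) (e ▸ h₂) := by
  subst e; rfl

/-- Restriction of a datum. -/
def restrict {T T' : Over S} (φ : T' ⟶ T) (D : Datum A π T) : Datum A π T' where
  θ := φ ≫ D.θ
  δ f q₁ q₂ h₁ h₂ := D.δ (f ≫ φ) q₁ q₂ (by rw [h₁, Category.assoc]) (by rw [h₂, Category.assoc])
  nat k f q₁ q₂ h₁ h₂ := (D.δ_congr (Category.assoc k f φ) rfl rfl _ _).trans (D.nat k (f ≫ φ) q₁ q₂ _ _)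
  cocycle f q₁ q₂ q₃ h₁ h₂ h₃ := D.cocycle (f ≫ φ) q₁ q₂ q₃ _ _ _

theorem restrict_id {T : Over S} (D : Datum A π T) : restrict (𝟙 T) D = D :=
  ext' (Category.id_comp _) fun f q₁ q₂ h₁ h₂ h₁' h₂' => D.δ_congr (Category.comp_id f) rfl rfl _ _

theorem restrict_comp {T T' T'' : Over S} (φ : T' ⟶ T) (ψ : T'' ⟶ T') (D : Datum A π T) :
    restrict (ψ ≫ φ) D = restrict ψ (restrict φ D) :=
  ext' (Category.assoc _ _ _) fun f q₁ q₂ h₁ h₂ h₁' h₂' => D.δ_congr (Category.assoc _ _ _).symm rfl rfl _ _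

/-- The source of the arrows at a branch. -/
def pt {T : Over S} (D : Datum A π T) {Z : Over S} (f : Z ⟶ T) (q : Z ⟶ P) (h : q ≫ π = f ≫ D.θ) : Z ⟶ U :=
  (yon S).preimage (D.δ f q q h h ≫ A.a)

theorem map_pt {T : Over S} (D : Datum A π T) {Z : Over S} (f : Z ⟶ T) (q : Z ⟶ P) (h : q ≫ π = f ≫ D.θ) :
    (yon S).map (D.pt f q h) = D.δ f q q h h ≫ A.a := (yon S).map_preimage _

theorem δ_self {T : Over S} (D : Datum A π T) {Z : Over S} (f : Z ⟶ T) (q : Z ⟶ P) (h : q ≫ π = f ≫ D.θ) :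
    D.δ f q q h h = A.one (D.pt f q h) := by
  obtain ⟨e, he⟩ := D.cocycle f q q q h h h
  exact A.idem _ _ (D.map_pt f q h).symm e he

theorem δ_a {T : Over S} (D : Datum A π T) {Z : Over S} (f : Z ⟶ T) (q₁ q₂ : Z ⟶ P)
    (h₁ : q₁ ≫ π = f ≫ D.θ) (h₂ : q₂ ≫ π = f ≫ D.θ) :
    D.δ f q₁ q₂ h₁ h₂ ≫ A.a = (yon S).map (D.pt f q₁ h₁) := by
  obtain ⟨e, -⟩ := D.cocycle f q₁ q₁ q₂ h₁ h₁ h₂
  rw [← e, D.δ_self f q₁ h₁, A.one_b]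

theorem δ_b {T : Over S} (D : Datum A π T) {Z : Over S} (f : Z ⟶ T) (q₁ q₂ : Z ⟶ P)
    (h₁ : q₁ ≫ π = f ≫ D.θ) (h₂ : q₂ ≫ π = f ≫ D.θ) :
    D.δ f q₁ q₂ h₁ h₂ ≫ A.b = (yon S).map (D.pt f q₂ h₂) := by
  obtain ⟨e, -⟩ := D.cocycle f q₁ q₂ q₂ h₁ h₂ h₂
  rw [e, D.δ_self f q₂ h₂, A.one_a]

theorem δ_eq_div {T : Over S} (D : Datum A π T) {Z : Over S} (f : Z ⟶ T) (q₀ q₁ q₂ : Z ⟶ P)
    (h₀ : q₀ ≫ π = f ≫ D.θ) (h₁ : q₁ ≫ π = f ≫ D.θ) (h₂ : q₂ ≫ π = f ≫ D.θ) :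
    D.δ f q₁ q₂ h₁ h₂ = A.div (D.δ f q₀ q₁ h₀ h₁) (D.δ f q₀ q₂ h₀ h₂) ((D.δ_a f q₀ q₁ h₀ h₁).trans (D.δ_a f q₀ q₂ h₀ h₂).symm) := by
  obtain ⟨e, he⟩ := D.cocycle f q₀ q₁ q₂ h₀ h₁ h₂
  exact (A.eq_div _ _ e).trans (A.div_congr rfl he _)

end Datum

variable (A π)

/-- The presheaf of multisection data. -/
def pre : PSp S where
  obj T := Datum A π T.unop
  map φ := ↾(Datum.restrict φ.unop)
  map_id T := by ext D; exact Datum.restrict_id D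
  map_comp φ ψ := by ext D; exact Datum.restrict_comp φ.unop ψ.unop D

open Groth.L23.UHPush in
theorem isSheaf_pre : Presheaf.IsSheaf (AlgSp.J S) (pre A π) := by
  rw [isSheaf_iff_isSheaf_of_type]
  intro T R hR D hD
  have hcomp : ∀ ⦃Y Z : Over S⦄ (f : Y ⟶ T) (hf : R f) (k : Z ⟶ Y),
      Datum.restrict k (D f hf) = D (k ≫ f) (R.downward_closed hf k) := fun Y Z f hf k => by
    have := hD k (𝟙 Z) hf (R.downward_closed hf k) (Category.id_comp _).symm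
    exact this.trans (congr($((pre A π).map_id (op Z)) _))
  have hEc : ∀ ⦃Y : Over S⦄ {f f' : Y ⟶ T} (hf : R f) (hf' : R f'), f = f' → D f hf = D f' hf' :=
    fun Y f f' hf hf' e => by subst e; rfl
  obtain ⟨θ, hθ, -⟩ := Groth.L23.Norm.existsUnique_glueSieve_hom hR (fun Y f hf => (D f hf).θ)
    fun Y Z f hf k => congr_arg Datum.θ (hcomp f hf k)
  have he : ∀ {Z : Over S} (x : Z ⟶ T) (q : Z ⟶ P), q ≫ π = x ≫ θ → ∀ ⦃Y : Over S⦄ (f : Y ⟶ Z)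
      (hf : R (f ≫ x)), (f ≫ q) ≫ π = 𝟙 Y ≫ (D (f ≫ x) hf).θ := fun x q h Y f hf => by
    rw [Category.id_comp, ← hθ _ hf, Category.assoc, h, Category.assoc]
  have hz : ∀ {Z : Over S} (x : Z ⟶ T) (q₁ q₂ : Z ⟶ P), q₁ ≫ π = x ≫ θ → q₂ ≫ π = x ≫ θ →
      ∃! l : (yon S).obj Z ⟶ A.E, ∀ ⦃Y : Over S⦄ (f : Y ⟶ Z) (hf : R (f ≫ x)) (e₁ : _) (e₂ : _),
        (yon S).map f ≫ l = (D (f ≫ x) hf).δ (𝟙 Y) (f ≫ q₁) (f ≫ q₂) e₁ e₂ := by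
    intro Z x q₁ q₂ h₁ h₂
    obtain ⟨l, hl, hlu⟩ := existsUnique_glueSieve ((AlgSp.J S).pullback_stable x hR)
      (fun Y f hf => (D (f ≫ x) hf).δ (𝟙 Y) (f ≫ q₁) (f ≫ q₂) (he x q₁ h₁ f hf) (he x q₂ h₂ f hf))
      fun Y Y' f hf k => by
      rw [← (D (f ≫ x) hf).nat k (𝟙 Y) _ _ (he x q₁ h₁ f hf) (he x q₂ h₂ f hf)]
      have e₃ : D ((k ≫ f) ≫ x) (by rw [Category.assoc]; exact R.downward_closed hf k) =
          Datum.restrict k (D (f ≫ x) hf) := by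
        rw [hcomp]; exact hEc _ _ (Category.assoc _ _ _)
      rw [Datum.congr_δ e₃]
      exact Datum.δ_congr _ (by simp) (Category.assoc _ _ _).symm (Category.assoc _ _ _).symm _ _
    exact ⟨l, fun Y f hf e₁ e₂ => hl f hf, fun l' hl' => hlu l' fun Y f hf => hl' f hf (he x q₁ h₁ f hf) (he x q₂ h₂ f hf)⟩
  choose δ hδ hδu using fun {Z : Over S} (x : Z ⟶ T) (q₁ q₂ : Z ⟶ P) (h₁ : q₁ ≫ π = x ≫ θ) (h₂ : q₂ ≫ π = x ≫ θ) =>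
    hz x q₁ q₂ h₁ h₂
  have hval : ∀ ⦃Y : Over S⦄ (f : Y ⟶ T) (hf : R f) {Z : Over S} (x : Z ⟶ Y) (q₁ q₂ : Z ⟶ P)
      (h₁ : q₁ ≫ π = x ≫ (D f hf).θ) (h₂ : q₂ ≫ π = x ≫ (D f hf).θ) (h₁' : q₁ ≫ π = (x ≫ f) ≫ θ)
      (h₂' : q₂ ≫ π = (x ≫ f) ≫ θ),
      δ (x ≫ f) q₁ q₂ h₁' h₂' = (D f hf).δ x q₁ q₂ h₁ h₂ := fun Y f hf Z x q₁ q₂ h₁ h₂ h₁' h₂' => by
    have hR' : R (𝟙 Z ≫ x ≫ f) := by rw [Category.id_comp]; exact R.downward_closed hf x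
    have h4 := hδ (x ≫ f) q₁ q₂ h₁' h₂' (𝟙 Z) hR' (he (x ≫ f) q₁ h₁' (𝟙 Z) hR') (he (x ≫ f) q₂ h₂' (𝟙 Z) hR')
    rw [(yon S).map_id, Category.id_comp] at h4
    rw [h4]
    have h3 : D (𝟙 Z ≫ x ≫ f) hR' = Datum.restrict x (D f hf) := by
      rw [hcomp]; exact hEc _ _ (Category.id_comp _)
    rw [Datum.congr_δ h3]
    exact (D f hf).δ_congr (Category.id_comp x) (Category.id_comp _) (Category.id_comp _) _ _
  let D₀ : Datum A π T :=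
    { θ := θ
      δ := fun x q₁ q₂ h₁ h₂ => δ x q₁ q₂ h₁ h₂
      nat := fun {Z Z'} k x q₁ q₂ h₁ h₂ => (hδu _ _ _ _ _ _ fun Y f hf e₁ e₂ => by
        rw [← Category.assoc, ← Functor.map_comp,
          hδ x q₁ q₂ h₁ h₂ (f ≫ k) (by rw [Category.assoc]; exact hf) (he x q₁ h₁ _ _) (he x q₂ h₂ _ _)]
        have h3 : D ((f ≫ k) ≫ x) (by rw [Category.assoc]; exact hf) = D (f ≫ k ≫ x) hf := hEc _ _ (Category.assoc _ _ _)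
        rw [Datum.congr_δ h3]
        exact Datum.δ_congr _ rfl (Category.assoc _ _ _) (Category.assoc _ _ _) _ _).symm
      cocycle := fun {Z} x q₁ q₂ q₃ h₁ h₂ h₃ => by
        have hc := fun ⦃Y : Over S⦄ (f : Y ⟶ Z) (hf : R (f ≫ x)) =>
          (D (f ≫ x) hf).cocycle (𝟙 Y) (f ≫ q₁) (f ≫ q₂) (f ≫ q₃) (he x q₁ h₁ f hf) (he x q₂ h₂ f hf) (he x q₃ h₃ f hf)
        have e : δ x q₁ q₂ h₁ h₂ ≫ A.b = δ x q₂ q₃ h₂ h₃ ≫ A.a :=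
          hom_ext_sieve ((AlgSp.J S).pullback_stable x hR) fun Y f hf => by
            rw [← Category.assoc, ← Category.assoc, hδ x q₁ q₂ h₁ h₂ f hf, hδ x q₂ q₃ h₂ h₃ f hf]
            exact (hc f hf).1
        refine ⟨e, hom_ext_sieve ((AlgSp.J S).pullback_stable x hR) fun Y f hf => ?_⟩
        rw [A.comp_nat, hδ x q₁ q₃ h₁ h₃ f hf (he x q₁ h₁ f hf) (he x q₃ h₃ f hf),
          A.comp_congr (hδ x q₁ q₂ h₁ h₂ f hf (he x q₁ h₁ f hf) (he x q₂ h₂ f hf))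
            (hδ x q₂ q₃ h₂ h₃ f hf (he x q₂ h₂ f hf) (he x q₃ h₃ f hf))]
        exact (hc f hf).2 }
  refine ⟨D₀, fun Y f hf => Datum.ext' (hθ f hf) fun {Z} x q₁ q₂ h₁ h₂ h₁' h₂' => ?_, fun D₁ hD₁ => ?_⟩
  · exact hval f hf x q₁ q₂ h₁' h₂' (by rw [Category.assoc]; exact h₁) (by rw [Category.assoc]; exact h₂)
  have hθ₁ : D₁.θ = θ := Groth.L23.Norm.hom_ext_sieve_hom hR fun Y f hf => (congr_arg Datum.θ (hD₁ f hf)).trans (hθ f hf).symm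
  refine Datum.ext' hθ₁ fun {Z} x q₁ q₂ h₁ h₂ h₁' h₂' => hδu x q₁ q₂ h₁' h₂' _ fun Y f hf e₁ e₂ => ?_
  rw [← D₁.nat f x q₁ q₂ h₁ h₂]
  have h5 : Datum.restrict (f ≫ x) D₁ = D (f ≫ x) hf := hD₁ _ hf
  refine (D₁.δ_congr (Category.id_comp _).symm rfl rfl _ _).trans ((Datum.congr_δ h5 (𝟙 Y) _ _ ?_ ?_))
  · show (f ≫ q₁) ≫ π = 𝟙 Y ≫ (f ≫ x) ≫ D₁.θ
    rw [Category.id_comp, Category.assoc, h₁, Category.assoc]
  · show (f ≫ q₂) ≫ π = 𝟙 Y ≫ (f ≫ x) ≫ D₁.θ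
    rw [Category.id_comp, Category.assoc, h₂, Category.assoc]

/-- The sheaf of multisection data. -/
def multi : Sp S := ⟨pre A π, isSheaf_pre A π⟩

/-- Maps into the sheaf are data. -/
def homEquiv (T : Over S) : ((yon S).obj T ⟶ multi A π) ≃ Datum A π T := (AlgSp.J S).uliftYonedaEquiv

theorem homEquiv_comp {T T' : Over S} (φ : T' ⟶ T) (l : (yon S).obj T ⟶ multi A π) :
    homEquiv A π T' ((yon S).map φ ≫ l) = Datum.restrict φ (homEquiv A π T l) :=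
  ((AlgSp.J S).uliftYonedaEquiv_naturality l φ).symm

/-- The map to the parameter scheme. -/
def param : multi A π ⟶ (yon S).obj Θ := ObjectProperty.homMk
  { app := fun T => ↾fun D => ULift.up D.θ }

theorem comp_param {T : Over S} (l : (yon S).obj T ⟶ multi A π) :
    l ≫ param A π = (yon S).map (homEquiv A π T l).θ :=
  (AlgSp.J S).uliftYonedaEquiv.injective (((AlgSp.J S).uliftYonedaEquiv_comp l (param A π)).trans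
    ((AlgSp.J S).uliftYonedaEquiv_uliftYoneda_map (homEquiv A π T l).θ).symm)

end Groth.L24.Multi
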