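import Groth.Agent.L24.Multi.Atlas
import Groth.Agent.L24.Multi.Datum
import Groth.Agent.L23.NormQF
import Groth.Agent.L24.St.Yoneda

/-!
Multisection data descend to points of the stack.
-/

set_option autoImplicit false
set_option backward.isDefEq.respectTransparency false
set_option backward.isDefEq.respectTransparency.types false

universe u

open CategoryTheory CategoryTheory.Limits AlgebraicGeometry Opposite AlgSp

noncomputable section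

namespace Groth.L24.Multi

open Groth.L24.St

variable {S : Scheme.{u}} {𝒵 : AlgSt.Cat S} {U : Over S} {x : FibCat.overCat U ⥤ᵇ 𝒵}
  (hg : FibCat.IsFibGrpd 𝒵.p) (h𝒵 : Stk.IsStack (AlgSp.J S) 𝒵)
  (hr : AlgSt.RepByAlgSpWith (LocP @Smooth) x)

/-- The morphism over `k` defined by an arrow. -/
def Ar.mor {T T₂ : Over S} (s : Ar x T) (k : T ⟶ T₂) {v : T ⟶ U} {v₂ : T₂ ⟶ U} (hv : s.v = v)
    (hw : k ≫ v₂ = s.w) : ob x v ⟶ ob x v₂ :=
  pull x (𝟙 T) ((Category.id_comp _).trans hv) ≫ s.φ ≫ pull x k hw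

theorem Ar.mor_lift {T T₂ : Over S} (s : Ar x T) (k : T ⟶ T₂) {v : T ⟶ U} {v₂ : T₂ ⟶ U} (hv : s.v = v)
    (hw : k ≫ v₂ = s.w) : 𝒵.p.IsHomLift k (s.mor k hv hw) := by
  have h : 𝒵.p.IsHomLift (𝟙 T ≫ 𝟙 T ≫ k) (pull x (𝟙 T) ((Category.id_comp _).trans hv) ≫ s.φ ≫ pull x k hw) :=
    inferInstance
  simpa [Ar.mor] using h

theorem Ar.mor_congr {T T₂ : Over S} {s s' : Ar x T} (e : s = s') {k k' : T ⟶ T₂} (ek : k = k') {v : T ⟶ U}
    {v₂ : T₂ ⟶ U} (hv : s.v = v) (hw : k ≫ v₂ = s.w) : s.mor k hv hw = s'.mor k' (e ▸ hv) (e ▸ ek ▸ hw) := by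
  subst e ek; rfl

theorem Ar.mor_one {T : Over S} (v : T ⟶ U) :
    (Ar.one (x := x) v).mor (𝟙 T) rfl (Category.id_comp v) = 𝟙 _ := by
  simp [Ar.mor, Ar.one]

theorem Ar.mor_comp {T T₂ T₃ : Over S} (s : Ar x T) (t : Ar x T₂) (k : T ⟶ T₂) (l : T₂ ⟶ T₃) {v : T ⟶ U}
    {v₂ : T₂ ⟶ U} {v₃ : T₃ ⟶ U} (hv : s.v = v) (hw : k ≫ v₂ = s.w) (hv' : t.v = v₂) (hw' : l ≫ v₃ = t.w)
    (h : s.w = (t.res hg k).v) :
    s.mor k hv hw ≫ t.mor l hv' hw' =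
      (s.comp (t.res hg k) h).mor (k ≫ l) hv
        (by show (k ≫ l) ≫ v₃ = k ≫ t.w; rw [Category.assoc, hw']) := by
  subst hv hv'
  simp only [Ar.mor, Ar.comp, pull_self, Category.id_comp, Category.assoc]
  congr 1
  rw [← pull_comp x k l (v₂ := t.w) (show k ≫ t.w = (t.res hg k).w from rfl) hw', ← Category.assoc (t.res hg k).φ,
    Ar.res_spec hg k t]
  refine Eq.trans ?_ (congrArg _ (Category.assoc _ _ _).symm)
  rw [pull_comp_assoc]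
  congr 1

variable {P Θ : Over S} {π : P ⟶ Θ}

/-- A branch of a cover over a base. -/
structure Br (π : P ⟶ Θ) {T : Over S} (θ : T ⟶ Θ) : Type (u + 1) where
  Z : Over S
  f : Z ⟶ T
  q : Z ⟶ P
  eq : q ≫ π = f ≫ θ

/-- The slice object under a branch. -/
abbrev brObj {T : Over S} (θ : T ⟶ Θ) (a : Br π θ) : Over T := Over.mk a.f

/-- The category of branches. -/
abbrev brCat {T : Over S} (θ : T ⟶ Θ) : BasedCategory.{u, u + 1} (Over S) :=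
  BasedCategory.ofFunctor (inducedFunctor (brObj (π := π) θ) ⋙ Over.forget T)

/-- The projection to the slice. -/
def brProj {T : Over S} (θ : T ⟶ Θ) : brCat (π := π) θ ⥤ᵇ FibCat.overCat T where
  toFunctor := inducedFunctor (brObj (π := π) θ)
  w := rfl


section Data

variable {T : Over S} (E : Datum (atlasArr (x := x) hg h𝒵 hr) π T)

/-- The arrow between two branches. -/
abbrev arrAt {Z : Over S} (f : Z ⟶ T) (q₁ q₂ : Z ⟶ P) (h₁ : q₁ ≫ π = f ≫ E.θ) (h₂ : q₂ ≫ π = f ≫ E.θ) : Ar x Z :=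
  sec hg h𝒵 (E.δ f q₁ q₂ h₁ h₂)

theorem arrAt_v {Z : Over S} (f : Z ⟶ T) (q₁ q₂ : Z ⟶ P) (h₁ : q₁ ≫ π = f ≫ E.θ) (h₂ : q₂ ≫ π = f ≫ E.θ) :
    (arrAt hg h𝒵 hr E f q₁ q₂ h₁ h₂).v = E.pt f q₁ h₁ :=
  (yon S).map_injective ((comp_srcMap hg h𝒵 _).symm.trans (E.δ_a f q₁ q₂ h₁ h₂))

theorem arrAt_w {Z : Over S} (f : Z ⟶ T) (q₁ q₂ : Z ⟶ P) (h₁ : q₁ ≫ π = f ≫ E.θ) (h₂ : q₂ ≫ π = f ≫ E.θ) :
    (arrAt hg h𝒵 hr E f q₁ q₂ h₁ h₂).w = E.pt f q₂ h₂ :=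
  (yon S).map_injective ((comp_tgtMap hg h𝒵 _).symm.trans (E.δ_b f q₁ q₂ h₁ h₂))

theorem br_eq {a b : (brCat (π := π) E.θ).obj} (m : a ⟶ b) : (m.hom.left ≫ b.q) ≫ π = a.f ≫ E.θ := by
  rw [Category.assoc, b.eq, ← Category.assoc]
  exact congrArg (· ≫ E.θ) (Over.w m.hom)

theorem arrAt_w' {a b : (brCat (π := π) E.θ).obj} (m : a ⟶ b) :
    m.hom.left ≫ E.pt b.f b.q b.eq = (arrAt hg h𝒵 hr E a.f a.q (m.hom.left ≫ b.q) a.eq (br_eq hg h𝒵 hr E m)).w := by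
  rw [arrAt_w]
  apply (yon S).map_injective
  rw [Functor.map_comp, E.map_pt, E.map_pt, ← Category.assoc, ← E.nat]
  exact congrArg (· ≫ (atlasArr hg h𝒵 hr).a) (E.δ_congr (Over.w m.hom : m.hom.left ≫ b.f = a.f) rfl rfl _ _)

theorem arrAt_res {Z Z' : Over S} (k : Z' ⟶ Z) (f : Z ⟶ T) (q₁ q₂ : Z ⟶ P) (h₁ : q₁ ≫ π = f ≫ E.θ)
    (h₂ : q₂ ≫ π = f ≫ E.θ) {f' : Z' ⟶ T} {q₁' q₂' : Z' ⟶ P} (hf : k ≫ f = f') (hq₁ : k ≫ q₁ = q₁')
    (hq₂ : k ≫ q₂ = q₂') (h₁' : q₁' ≫ π = f' ≫ E.θ) (h₂' : q₂' ≫ π = f' ≫ E.θ) :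
    (arrAt hg h𝒵 hr E f q₁ q₂ h₁ h₂).res hg k = arrAt hg h𝒵 hr E f' q₁' q₂' h₁' h₂' := by
  subst hf hq₁ hq₂
  rw [arrAt, arrAt, E.nat]
  exact (sec_nat hg h𝒵 k _).symm

theorem arrAt_cocycle {Z : Over S} (f : Z ⟶ T) (q₁ q₂ q₃ : Z ⟶ P) (h₁ : q₁ ≫ π = f ≫ E.θ) (h₂ : q₂ ≫ π = f ≫ E.θ)
    (h₃ : q₃ ≫ π = f ≫ E.θ) :
    ∃ e, (arrAt hg h𝒵 hr E f q₁ q₂ h₁ h₂).comp (arrAt hg h𝒵 hr E f q₂ q₃ h₂ h₃) e =
      arrAt hg h𝒵 hr E f q₁ q₃ h₁ h₃ := by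
  obtain ⟨e, he⟩ := E.cocycle f q₁ q₂ q₃ h₁ h₂ h₃
  exact ⟨tgt_eq_src hg h𝒵 e, ((sec_arPt hg h𝒵 _).symm).trans (congrArg (sec hg h𝒵) he)⟩

theorem arrAt_self {Z : Over S} (f : Z ⟶ T) (q : Z ⟶ P) (h : q ≫ π = f ≫ E.θ) :
    arrAt hg h𝒵 hr E f q q h h = Ar.one (E.pt f q h) :=
  (congrArg (sec hg h𝒵) (E.δ_self f q h)).trans (sec_arPt hg h𝒵 _)

/-- The functor on branches defined by a datum. -/
def brFun : brCat (π := π) E.θ ⥤ᵇ 𝒵 where
  toFunctor :=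
    { obj := fun a => ob x (E.pt a.f a.q a.eq)
      map := fun {a b} m => (arrAt hg h𝒵 hr E a.f a.q (m.hom.left ≫ b.q) a.eq (br_eq hg h𝒵 hr E m)).mor m.hom.left
        (arrAt_v hg h𝒵 hr E _ _ _ _ _) (arrAt_w' hg h𝒵 hr E m)
      map_id := fun a => by
        refine (Ar.mor_congr (s' := Ar.one (E.pt a.f a.q a.eq)) ?_ (k' := 𝟙 _) rfl _ _).trans (Ar.mor_one _)
        exact (congrArg (sec hg h𝒵) (E.δ_congr rfl rfl (Category.id_comp _) _ _)).trans (arrAt_self hg h𝒵 hr E _ _ _)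
      map_comp := fun {a b c} m n => by
        have h1 := br_eq hg h𝒵 hr E m
        have hmn : ((m.hom.left ≫ n.hom.left) ≫ c.q) ≫ π = a.f ≫ E.θ := br_eq hg h𝒵 hr E (m ≫ n)
        obtain ⟨e, he⟩ := arrAt_cocycle hg h𝒵 hr E a.f a.q (m.hom.left ≫ b.q) ((m.hom.left ≫ n.hom.left) ≫ c.q) a.eq h1 hmn
        have hres := arrAt_res hg h𝒵 hr E m.hom.left b.f b.q (n.hom.left ≫ c.q) b.eq (br_eq hg h𝒵 hr E n)
          (f' := a.f) (q₁' := m.hom.left ≫ b.q) (q₂' := (m.hom.left ≫ n.hom.left) ≫ c.q) (Over.w m.hom) rfl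
          (Category.assoc _ _ _).symm h1 hmn
        rw [Ar.mor_comp hg _ _ _ _ _ _ _ _ ((e.trans (congrArg Ar.v hres).symm))]
        exact Ar.mor_congr ((Ar.comp_congr hg rfl hres _).trans he).symm rfl _ _ }
  w := CategoryTheory.Functor.ext (fun a => x.w_obj _) fun a b m => by
    have := Ar.mor_lift (arrAt hg h𝒵 hr E a.f a.q (m.hom.left ≫ b.q) a.eq (br_eq hg h𝒵 hr E m)) m.hom.left
      (arrAt_v hg h𝒵 hr E _ _ _ _ _) (arrAt_w' hg h𝒵 hr E m)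
    exact IsHomLift.fac' 𝒵.p m.hom.left _

/-- A functor on the slice realises a datum if it restricts to it on branches. -/
def Realizes (y : FibCat.overCat T ⥤ᵇ 𝒵) : Prop :=
  Nonempty (BasedFunctor.comp (brProj (π := π) E.θ) y ≅ brFun hg h𝒵 hr E)

end Data

/-- The sieve of points with a branch. -/
def brSieve (π : P ⟶ Θ) {T : Over S} (θ : T ⟶ Θ) : Sieve T where
  arrows Z f := ∃ q : Z ⟶ P, q ≫ π = f ≫ θ
  downward_closed := by
    rintro Y Z f ⟨q, hq⟩ g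
    exact ⟨g ≫ q, by rw [Category.assoc, hq, Category.assoc]⟩

/-- The branches over the sieve. -/
def brToSieve {T : Over S} (θ : T ⟶ Θ) : brCat (π := π) θ ⥤ᵇ Stk.sieveCat (brSieve π θ) where
  toFunctor := ObjectProperty.lift _ (inducedFunctor (brObj (π := π) θ)) fun a => ⟨a.q, a.eq⟩
  w := rfl

theorem brToSieve_isEquivOver {T : Over S} (θ : T ⟶ Θ) : FibCat.IsEquivOver (brToSieve (π := π) θ) := by
  have : (brToSieve (π := π) θ).toFunctor.Faithful := ⟨fun {a b m m'} h =>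
    InducedCategory.hom_ext (congrArg (fun t : (brToSieve (π := π) θ).obj a ⟶ (brToSieve θ).obj b => t.hom) h)⟩
  have : (brToSieve (π := π) θ).toFunctor.Full := ⟨fun {a b} M => ⟨InducedCategory.homMk M.hom, rfl⟩⟩
  refine isEquivOver_of_overId _ fun η => ?_
  obtain ⟨q, hq⟩ := η.property
  exact ⟨⟨η.obj.left, η.obj.hom, q, hq⟩, Iso.refl η, overId_id η⟩

theorem brSieve_mem [Etale π.left] [Surjective π.left] {T : Over S} (θ : T ⟶ Θ) : brSieve π θ ∈ AlgSp.J S T := by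
  have he : Etale (pullback.fst θ π).left :=
    MorphismProperty.of_isPullback ((IsPullback.of_hasPullback θ π).map (Over.forget S)).flip ‹Etale π.left›
  have hs : Surjective (pullback.fst θ π).left :=
    MorphismProperty.of_isPullback ((IsPullback.of_hasPullback θ π).map (Over.forget S)).flip ‹Surjective π.left›
  refine GrothendieckTopology.superset_covering _ ?_
    (Groth.L23.Norm.etale_family_mem_J (fun _ : PUnit.{u + 1} => pullback.fst θ π) (fun _ => he)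
      fun t => ⟨⟨⟩, hs.surj t⟩)
  rintro Z f ⟨W, m, _, ⟨i⟩, rfl⟩
  exact ⟨m ≫ pullback.snd θ π, by rw [Category.assoc, ← pullback.condition, Category.assoc]⟩

/-- Every datum is realised. -/
theorem exists_realizes [Etale π.left] [Surjective π.left] {T : Over S}
    (E : Datum (atlasArr (x := x) hg h𝒵 hr) π T) : ∃ y, Realizes hg h𝒵 hr E y := by
  obtain ⟨c, -, ⟨i⟩, -⟩ := exists_inverse (brToSieve_isEquivOver (π := π) E.θ)
  have : (Stk.resSieve (brSieve π E.θ) 𝒵).IsEquivalence := h𝒵.2 _ (brSieve_mem (π := π) E.θ)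
  refine ⟨(Stk.resSieve (brSieve π E.θ) 𝒵).objPreimage (BasedFunctor.comp c (brFun hg h𝒵 hr E)), ⟨?_⟩⟩
  exact (whiskerL (brToSieve E.θ) ((Stk.resSieve (brSieve π E.θ) 𝒵).objObjPreimageIso
    (BasedFunctor.comp c (brFun hg h𝒵 hr E)))) ≪≫ whiskerR i (brFun hg h𝒵 hr E)

theorem realizes_unique [Etale π.left] [Surjective π.left] {T : Over S}
    {E : Datum (atlasArr (x := x) hg h𝒵 hr) π T} {y y' : FibCat.overCat T ⥤ᵇ 𝒵}
    (hy : Realizes hg h𝒵 hr E y) (hy' : Realizes hg h𝒵 hr E y') : Nonempty (y ≅ y') := by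
  obtain ⟨i⟩ := hy
  obtain ⟨i'⟩ := hy'
  obtain ⟨c, -, -, ⟨j⟩⟩ := exists_inverse (brToSieve_isEquivOver (π := π) E.θ)
  have : (Stk.resSieve (brSieve π E.θ) 𝒵).IsEquivalence := h𝒵.2 _ (brSieve_mem (π := π) E.θ)
  let r := BasedFunctor.comp (Stk.sieveIncl (brSieve π E.θ)) y
  let r' := BasedFunctor.comp (Stk.sieveIncl (brSieve π E.θ)) y'
  have k : BasedFunctor.comp (brToSieve E.θ) r ≅ BasedFunctor.comp (brToSieve E.θ) r' := i ≪≫ i'.symm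
  have m : r ≅ r' := (whiskerR j r).symm ≪≫ whiskerL c k ≪≫ whiskerR j r'
  exact ⟨(Stk.resSieve (brSieve π E.θ) 𝒵).preimageIso m⟩

/-- Realisation restricts. -/
theorem realizes_restrict {T T' : Over S} (φ : T' ⟶ T) {E : Datum (atlasArr (x := x) hg h𝒵 hr) π T}
    {y : FibCat.overCat T ⥤ᵇ 𝒵} (hy : Realizes hg h𝒵 hr E y) :
    Realizes hg h𝒵 hr (Datum.restrict φ E) (BasedFunctor.comp (AlgSt.overMap φ) y) := by
  obtain ⟨i⟩ := hy
  let ρ : brCat (π := π) (Datum.restrict φ E).θ ⥤ᵇ brCat (π := π) E.θ :=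
    { toFunctor :=
        { obj := fun a => ⟨a.Z, a.f ≫ φ, a.q, a.eq.trans (Category.assoc _ _ _).symm⟩
          map := fun m => InducedCategory.homMk ((Over.map φ).map m.hom) }
      w := rfl }
  refine ⟨(show BasedFunctor.comp (brProj (Datum.restrict φ E).θ) (BasedFunctor.comp (AlgSt.overMap φ) y) ≅
    BasedFunctor.comp ρ (BasedFunctor.comp (brProj E.θ) y) from Iso.refl _) ≪≫ whiskerL ρ i ≪≫ ?_⟩
  exact mkIso2 (fun a => Iso.refl _) (fun a b m => (Category.comp_id _).trans (Category.id_comp _).symm)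
    (fun a => overId_id _)

/-- At a branch the realisation is the atlas. -/
theorem realizes_branch {T Z : Over S} {E : Datum (atlasArr (x := x) hg h𝒵 hr) π T}
    {y : FibCat.overCat T ⥤ᵇ 𝒵} (hy : Realizes hg h𝒵 hr E y) (f : Z ⟶ T) (q : Z ⟶ P) (h : q ≫ π = f ≫ E.θ) :
    Nonempty (BasedFunctor.comp (AlgSt.overMap f) y ≅ BasedFunctor.comp (AlgSt.overMap (E.pt f q h)) x) := by
  obtain ⟨i⟩ := hy
  let a : (brCat (π := π) E.θ).obj := ⟨Z, f, q, h⟩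
  have e1 : (AlgSt.overMap f).obj (idObj Z) = Over.mk f := congrArg Over.mk (Category.id_comp f)
  have e2 : (AlgSt.overMap (E.pt f q h)).obj (idObj Z) = Over.mk (E.pt f q h) := congrArg Over.mk (Category.id_comp _)
  let φ : (BasedFunctor.comp (AlgSt.overMap f) y).obj (idObj Z) ≅
      (BasedFunctor.comp (AlgSt.overMap (E.pt f q h)) x).obj (idObj Z) :=
    eqToIso (congrArg y.obj e1) ≪≫ appIso i a ≪≫ eqToIso (congrArg x.obj e2).symm
  have hφ : OverId φ.hom := by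
    refine OverId.comp ?_ (OverId.comp (overId_app i.hom a) ?_)
    · exact OverId.of_eq (congrArg (fun t => 𝒵.p.obj (y.obj t)) e1) (eqToHom_map 𝒵.p (congrArg y.obj e1))
    · exact OverId.of_eq (congrArg (fun t => 𝒵.p.obj (x.obj t)) e2.symm) (eqToHom_map 𝒵.p (congrArg x.obj e2).symm)
  obtain ⟨e, -⟩ := exists_iso_of_evalId hg φ hφ
  exact ⟨e⟩

end Groth.L24.Multi
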