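import Groth.Agent.L24.Multi.Descent
import Groth.Agent.L24.Hensel.StackLift

/-!
A lift of a point of the stack over a cover gives a datum realised by the point.
-/

set_option autoImplicit false
set_option backward.isDefEq.respectTransparency false
set_option backward.isDefEq.respectTransparency.types false

universe u

open CategoryTheory CategoryTheory.Limits AlgebraicGeometry Opposite AlgSp

noncomputable section

namespace Groth.L24.Multi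

open Groth.L24.St

variable {S : Scheme.{u}} {𝒵 : AlgSt.Cat S} {U : Over S} {x : FibCat.overCat U ⥤ᵇ 𝒵}
  (hg : FibCat.IsFibGrpd 𝒵.p) (h𝒵 : Stk.IsStack (AlgSp.J S) 𝒵)
  (hr : AlgSt.RepByAlgSpWith (LocP @Smooth) x) {P Θ : Over S} {π : P ⟶ Θ}

/-- The arrow between two objects of the atlas identified with a third. -/
def Ar.ofIsos {T : Over S} {v w : T ⟶ U} {c : 𝒵.obj} (i : ob x v ≅ c) (j : ob x w ≅ c) (hi : OverId i.hom)
    (hj : OverId j.hom) : Ar x T :=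
  ⟨v, w, i.hom ≫ j.inv, (hi.comp (OverId.inv hj)).lift (x.w_obj _)⟩

theorem Ar.ofIsos_res {T T' : Over S} (k : T' ⟶ T) {v w : T ⟶ U} {v' w' : T' ⟶ U} {c c' : 𝒵.obj}
    {i : ob x v ≅ c} {j : ob x w ≅ c} {i' : ob x v' ≅ c'} {j' : ob x w' ≅ c'} (hi : OverId i.hom) (hj : OverId j.hom)
    (hi' : OverId i'.hom) (hj' : OverId j'.hom) (m : c' ⟶ c) (e₁ : k ≫ v = v') (e₂ : k ≫ w = w')
    (h₁ : pull x k e₁ ≫ i.hom = i'.hom ≫ m) (h₂ : pull x k e₂ ≫ j.hom = j'.hom ≫ m) :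
    Ar.ofIsos i' j' hi' hj' = (Ar.ofIsos i j hi hj).res hg k := by
  refine Ar.eq_res hg k e₁ e₂ ?_
  show (i'.hom ≫ j'.inv) ≫ pull x k e₂ = pull x k e₁ ≫ i.hom ≫ j.inv
  rw [← Category.assoc (pull x k e₁), h₁, Category.assoc, Category.assoc, Iso.cancel_iso_hom_left, Iso.inv_comp_eq,
    ← Category.assoc, Iso.eq_comp_inv, h₂]

omit hg in
theorem Ar.ofIsos_comp {T : Over S} {v w u : T ⟶ U} {c : 𝒵.obj} {i : ob x v ≅ c} {j : ob x w ≅ c} {l : ob x u ≅ c}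
    (hi : OverId i.hom) (hj : OverId j.hom) (hl : OverId l.hom) :
    (Ar.ofIsos i j hi hj).comp (Ar.ofIsos j l hj hl) rfl = Ar.ofIsos i l hi hl := by
  refine Ar.ext' rfl rfl ?_
  simp [Ar.comp, Ar.ofIsos]

/-- The comparison for equal points. -/
def castIso {T : Over S} {v v' : T ⟶ U} (e : v = v') : ob x v ≅ ob x v' where
  hom := pull x (𝟙 T) ((Category.id_comp _).trans e.symm)
  inv := pull x (𝟙 T) ((Category.id_comp _).trans e)
  hom_inv_id := by subst e; simp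
  inv_hom_id := by subst e; simp

theorem castIso_overId {T : Over S} {v v' : T ⟶ U} (e : v = v') : OverId (castIso (x := x) e).hom :=
  overId_of_lift (pull_lift x (𝟙 T) _)

theorem mor_ofIsos {T T₂ : Over S} {v w : T ⟶ U} {c : 𝒵.obj} {i : ob x v ≅ c} {j : ob x w ≅ c} (hi : OverId i.hom)
    (hj : OverId j.hom) {c₂ : 𝒵.obj} {p : T ⟶ U} {p₂ q₂ : T₂ ⟶ U} {l : ob x q₂ ≅ c₂} (k : T ⟶ T₂) (ev : v = p)
    (ew : k ≫ p₂ = w) (el : q₂ = p₂) (hv : (Ar.ofIsos i j hi hj).v = p) (hw : k ≫ p₂ = (Ar.ofIsos i j hi hj).w)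
    (e : k ≫ q₂ = w) (m : c ⟶ c₂) (hm : pull x k e ≫ l.hom = j.hom ≫ m) :
    m ≫ l.inv ≫ (castIso el).hom =
      (i.inv ≫ (castIso ev).hom) ≫ (Ar.ofIsos i j hi hj).mor k hv hw := by
  subst ev el
  simp only [Ar.mor, castIso, pull_self, Category.id_comp, Category.comp_id]
  show m ≫ l.inv = i.inv ≫ 𝟙 (ob x v) ≫ (i.hom ≫ j.inv) ≫ pull x k hw
  rw [Category.id_comp]
  rw [Category.assoc, Iso.inv_hom_id_assoc, Iso.eq_inv_comp, ← Category.assoc, Iso.comp_inv_eq]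
  exact hm.symm

/-- A natural family of identifications on branches gives a datum. -/
theorem exists_datum_of_family {T : Over S} {θ : T ⟶ Θ} (y : FibCat.overCat T ⥤ᵇ 𝒵)
    (pv : ∀ a : (brCat (π := π) θ).obj, a.Z ⟶ U) (β : ∀ a, ob x (pv a) ≅ y.obj (Over.mk a.f))
    (hβ : ∀ a, OverId (β a).hom)
    (nat : ∀ (a b : (brCat (π := π) θ).obj) (k : a.Z ⟶ b.Z) (hf : k ≫ b.f = a.f) (_ : k ≫ b.q = a.q),
      ∃ e : k ≫ pv b = pv a,
        pull x k e ≫ (β b).hom = (β a).hom ≫ y.map (Over.homMk k hf : Over.mk a.f ⟶ Over.mk b.f)) :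
    ∃ E : Datum (atlasArr (x := x) hg h𝒵 hr) π T, E.θ = θ ∧ Realizes hg h𝒵 hr E y := by
  let ar : ∀ {Z : Over S} (f : Z ⟶ T) (q₁ q₂ : Z ⟶ P), q₁ ≫ π = f ≫ θ → q₂ ≫ π = f ≫ θ → Ar x Z :=
    fun {Z} f q₁ q₂ h₁ h₂ => Ar.ofIsos (β ⟨Z, f, q₁, h₁⟩) (β ⟨Z, f, q₂, h₂⟩) (hβ _) (hβ _)
  let E : Datum (atlasArr (x := x) hg h𝒵 hr) π T :=
    { θ := θ
      δ := fun f q₁ q₂ h₁ h₂ => arPt hg h𝒵 (ar f q₁ q₂ h₁ h₂)
      nat := fun {Z Z'} k f q₁ q₂ h₁ h₂ => sec_inj hg h𝒵 (by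
        rw [sec_arPt]
        refine Eq.trans ?_ ((congrArg (Ar.res hg k) (sec_arPt hg h𝒵 _)).symm.trans (sec_nat hg h𝒵 k _).symm)
        obtain ⟨e₁, he₁⟩ := nat ⟨Z', k ≫ f, k ≫ q₁, by rw [Category.assoc, h₁, Category.assoc]⟩ ⟨Z, f, q₁, h₁⟩ k rfl rfl
        obtain ⟨e₂, he₂⟩ := nat ⟨Z', k ≫ f, k ≫ q₂, by rw [Category.assoc, h₂, Category.assoc]⟩ ⟨Z, f, q₂, h₂⟩ k rfl rfl
        exact Ar.ofIsos_res hg k _ _ _ _ _ e₁ e₂ he₁ he₂)
      cocycle := fun {Z} f q₁ q₂ q₃ h₁ h₂ h₃ => by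
        have e : arPt hg h𝒵 (ar f q₁ q₂ h₁ h₂) ≫ tgtMap hg h𝒵 = arPt hg h𝒵 (ar f q₂ q₃ h₂ h₃) ≫ srcMap hg h𝒵 := by
          rw [comp_tgtMap, comp_srcMap, sec_arPt, sec_arPt]
          rfl
        refine ⟨e, sec_inj hg h𝒵 ?_⟩
        rw [sec_arPt]
        exact (sec_arPt hg h𝒵 _).trans ((Ar.comp_congr hg (sec_arPt hg h𝒵 _) (sec_arPt hg h𝒵 _) _).trans
          (Ar.ofIsos_comp _ _ _)) }
  have hpt : ∀ a : (brCat (π := π) θ).obj, pv a = E.pt a.f a.q a.eq := fun a =>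
    ((congrArg Ar.v (sec_arPt hg h𝒵 (ar a.f a.q a.q a.eq a.eq))).symm).trans (arrAt_v hg h𝒵 hr E a.f a.q a.q a.eq a.eq)
  refine ⟨E, rfl, ⟨mkIso2 (fun a => (β a).symm ≪≫ castIso (hpt a)) ?_ ?_⟩⟩
  · intro a b m
    have hm : (m.hom.left ≫ b.q) ≫ π = a.f ≫ θ := br_eq hg h𝒵 hr E m
    have hs : arrAt hg h𝒵 hr E a.f a.q (m.hom.left ≫ b.q) a.eq hm = ar a.f a.q (m.hom.left ≫ b.q) a.eq hm :=
      sec_arPt hg h𝒵 _
    obtain ⟨e, he⟩ := nat ⟨a.Z, a.f, m.hom.left ≫ b.q, hm⟩ b m.hom.left (Over.w m.hom) rfl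
    show y.map m.hom ≫ ((β b).inv ≫ (castIso (hpt b)).hom) = ((β a).inv ≫ (castIso (hpt a)).hom) ≫
      (arrAt hg h𝒵 hr E a.f a.q (m.hom.left ≫ b.q) a.eq hm).mor m.hom.left (arrAt_v hg h𝒵 hr E _ _ _ _ _)
        (arrAt_w' hg h𝒵 hr E m)
    rw [Ar.mor_congr hs rfl]
    exact mor_ofIsos _ _ m.hom.left (hpt a) (by rw [← hpt b]; exact e) (hpt b) _ _ e (y.map m.hom) he
  · intro a
    exact (OverId.inv (hβ a)).comp (castIso_overId _)

/-- A lift of a point of the stack over the pullback of the cover gives a datum. -/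
theorem exists_datum_of_lift {T PT : Over S} {θ : T ⟶ Θ} {p₁ : PT ⟶ T} {p₂ : PT ⟶ P}
    (sq : IsPullback p₂ p₁ π θ) (y : FibCat.overCat T ⥤ᵇ 𝒵) (v : PT ⟶ U)
    (α : BasedFunctor.comp (AlgSt.overMap p₁) y ≅ BasedFunctor.comp (AlgSt.overMap v) x) :
    ∃ E : Datum (atlasArr (x := x) hg h𝒵 hr) π T, E.θ = θ ∧ Realizes hg h𝒵 hr E y := by
  let r : ∀ a : (brCat (π := π) θ).obj, a.Z ⟶ PT := fun a => sq.lift a.q a.f a.eq
  let e₁ : ∀ a : (brCat (π := π) θ).obj, (AlgSt.overMap p₁).obj (Over.mk (r a)) ≅ Over.mk a.f := fun a =>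
    Over.isoMk (Iso.refl _) ((Category.id_comp _).trans (sq.lift_snd _ _ _).symm)
  refine exists_datum_of_family hg h𝒵 hr y (fun a => r a ≫ v)
    (fun a => (appIso α (Over.mk (r a))).symm ≪≫ y.toFunctor.mapIso (e₁ a))
    (fun a => (OverId.inv (overId_app α.hom (Over.mk (r a)))).comp (OverId.map y (OverId.of_eq rfl rfl))) ?_
  intro a b k hf hq
  have hk : k ≫ r b = r a := sq.hom_ext (by rw [Category.assoc, sq.lift_fst, hq, sq.lift_fst])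
    (by rw [Category.assoc, sq.lift_snd, hf, sq.lift_snd])
  refine ⟨by rw [← Category.assoc, hk], ?_⟩
  let m : Over.mk (r a) ⟶ Over.mk (r b) := Over.homMk k hk
  have h1 := appIso_naturality α.symm m
  have h2 : pull x k (v := r b ≫ v) (v' := r a ≫ v) (by rw [← Category.assoc, hk]) =
      (BasedFunctor.comp (AlgSt.overMap v) x).map m := congrArg x.map (Over.OverMorphism.ext rfl)
  show pull x k _ ≫ ((appIso α (Over.mk (r b))).inv ≫ y.map (e₁ b).hom) =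
    ((appIso α (Over.mk (r a))).inv ≫ y.map (e₁ a).hom) ≫ y.map _
  rw [h2, ← Category.assoc]
  refine ((congrArg (· ≫ y.map (e₁ b).hom) h1).trans (Category.assoc _ _ _)).trans
    ((congrArg _ ?_).trans (Category.assoc _ _ _).symm)
  show y.map ((AlgSt.overMap p₁).map m) ≫ y.map (e₁ b).hom = _
  rw [← y.toFunctor.map_comp, ← y.toFunctor.map_comp]
  exact congrArg y.map (Over.OverMorphism.ext ((Category.comp_id _).trans (Category.id_comp _).symm))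

end Groth.L24.Multi
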