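import Groth.Agent.L24.Hensel.StackLift
import Groth.Agent.L24.Multi.SepPoint
import Groth.Agent.L24.St.Chart
import Groth.Agent.L23.Points

/-!
A field point of a stack lifts to a smooth surjective chart after a finite separable extension.
-/

set_option autoImplicit false
set_option backward.isDefEq.respectTransparency false
set_option backward.isDefEq.respectTransparency.types false

universe u

open CategoryTheory CategoryTheory.Limits AlgebraicGeometry Opposite AlgSp

noncomputable section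

namespace Groth.L24.Multi

open Groth.L24.St

variable {S : Scheme.{u}} {𝒵 : AlgSt.Cat S} {U : Over S} {x : FibCat.overCat U ⥤ᵇ 𝒵}

/-- The point of a field extension. -/
abbrev fieldOver {k : Type u} [Field k] (str : Spec (CommRingCat.of k) ⟶ S) (L : Type u) [Field L] [Algebra k L] :
    Over S := Over.mk (Spec.map (CommRingCat.ofHom (algebraMap k L)) ≫ str)

/-- The structure map of the point of a field extension. -/
abbrev fieldOverHom {k : Type u} [Field k] (str : Spec (CommRingCat.of k) ⟶ S) (L : Type u) [Field L] [Algebra k L] :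
    fieldOver str L ⟶ Over.mk str := Over.homMk (Spec.map (CommRingCat.ofHom (algebraMap k L))) rfl

/-- The algebra at an affine piece of a smooth scheme over a field. -/
theorem exists_sep_section {k : Type u} [Field k] {W : Scheme.{u}} (h : W ⟶ Spec (CommRingCat.of k)) [Smooth h]
    [Nonempty ↥W] : ∃ (L : Type u) (_ : Field L) (_ : Algebra k L), Module.Finite k L ∧ Algebra.IsSeparable k L ∧
      ∃ s : Spec (CommRingCat.of L) ⟶ W, s ≫ h = Spec.map (CommRingCat.ofHom (algebraMap k L)) := by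
  obtain ⟨w⟩ := ‹Nonempty ↥W›
  obtain ⟨_, ⟨O, hO, rfl⟩, hwO, -⟩ := W.isBasis_affineOpens.exists_subset_of_mem_open (Set.mem_univ w) isOpen_univ
  have : Nonempty ↥(O : W.Opens) := ⟨⟨w, hwO⟩⟩
  let φ : CommRingCat.of k ⟶ Γ(W, O) := Spec.preimage (hO.fromSpec ≫ h)
  have hφ : Smooth (Spec.map φ) := by rw [Spec.map_preimage]; infer_instance
  algebraize [φ.hom]
  have : Algebra.Smooth k Γ(W, O) := RingHom.smooth_algebraMap.1 ((HasRingHomProperty.Spec_iff (P := @Smooth)).1 hφ)
  have : Nontrivial Γ(W, O) := by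
    have : Nonempty (PrimeSpectrum Γ(W, O)) := ⟨hO.primeIdealOf ⟨w, hwO⟩⟩
    exact PrimeSpectrum.nonempty_iff_nontrivial.1 this
  obtain ⟨L, _, _, hfin, hsep, ⟨ψ⟩⟩ := exists_sep_point (k := k) (A := Γ(W, O))
  refine ⟨L, inferInstance, inferInstance, hfin, hsep, Spec.map (CommRingCat.ofHom ψ.toRingHom) ≫ hO.fromSpec, ?_⟩
  rw [Category.assoc, show hO.fromSpec ≫ h = Spec.map φ from (Spec.map_preimage _).symm, ← Spec.map_comp]
  congr 1
  ext a
  exact ψ.commutes a

theorem exists_stack_point (h𝒵 : FibCat.IsFibGrpd 𝒵.p) (hr : AlgSt.RepByAlgSpWith (LocP @Smooth) x)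
    (hs : AlgSt.RepByAlgSpWith AlgSp.IsSurjectiveMor x) (k : Type u) [Field k] (str : Spec (CommRingCat.of k) ⟶ S)
    (z : FibCat.overCat (Over.mk str) ⥤ᵇ 𝒵) :
    ∃ (L : Type u) (_ : Field L) (_ : Algebra k L), Module.Finite k L ∧ Algebra.IsSeparable k L ∧
      ∃ v : fieldOver str L ⟶ U, Nonempty (BasedFunctor.comp (AlgSt.overMap (fieldOverHom str L)) z ≅
        BasedFunctor.comp (AlgSt.overMap v) x) := by
  let f : AlgSt.ofSp ((yon S).obj U) ⥤ᵇ 𝒵 := BasedFunctor.comp (AlgSt.toOverCat U) x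
  obtain ⟨F, e, he, hP⟩ := ((repWith_precomp (toOverCat_isEquivOver U) x).2 hs) (Over.mk str) z
  have hsm : LocP @Smooth (AlgSt.spMapOfOver (BasedFunctor.comp e (FibCat.fpFst z f))) :=
    Wit.prop_of_equiv (fun F F' hF hF' i _ a ha => Groth.L23.locP_comp Groth.L23.etLocal_smooth hF' hF
      (IsAlgSpace.yon_obj _) (Groth.L23.locP_of_repWith Groth.L23.etLocal_smooth
        (Groth.L23.repWith_mono (fun φ (hφ : Etale φ) => by infer_instance) (Groth.L23.repWith_of_isIso (P := @Etale) i))) ha)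
      (((repWith_precomp (toOverCat_isEquivOver U) x).2 hr) (Over.mk str) z) F.property e he
  obtain ⟨W, c, hc, hcs⟩ := F.property.atlas
  obtain ⟨h, hh⟩ := (yon S).map_surjective (c ≫ AlgSt.spMapOfOver (BasedFunctor.comp e (FibCat.fpFst z f)))
  have : Smooth h.left := hsm c (𝟙 _) h hc (AlgSp.repWith_id _ _) ((Category.comp_id _).trans hh).symm
  have : Nonempty ↥W.left := by
    have t₀ : ↥(Over.mk str).left := (inferInstance : Nonempty (PrimeSpectrum k)).some
    obtain ⟨q, -⟩ := hP (Points.schemeEquiv (Over.mk str) t₀)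
    obtain ⟨w, -⟩ := Groth.L23.surjective_ofPt hcs q
    exact ⟨w⟩
  obtain ⟨L, _, _, hfin, hsep, s, hs'⟩ := exists_sep_section h.left
  let s' : fieldOver str L ⟶ W := Over.homMk s (by
    show s ≫ W.hom = Spec.map _ ≫ str
    rw [← hs', Category.assoc]
    exact congrArg (s ≫ ·) (Over.w h).symm)
  have hσ : ((yon S).map s' ≫ c) ≫ AlgSt.spMapOfOver (BasedFunctor.comp e (FibCat.fpFst z f)) =
      (yon S).map (fieldOverHom str L) := by
    rw [Category.assoc, ← hh, ← Functor.map_comp]
    exact congrArg (yon S).map (Over.OverMorphism.ext hs')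
  obtain ⟨i⟩ := Groth.L24.Hensel.iso_of_point e (fieldOverHom str L) ((yon S).map s' ≫ c) hσ
  refine ⟨L, inferInstance, inferInstance, hfin, hsep,
    (yon S).preimage (((yon S).map s' ≫ c) ≫ Groth.L24.Hensel.sndMap e), ⟨?_⟩⟩
  refine i.symm ≪≫ eqToIso ?_
  conv_lhs => rw [← (yon S).map_preimage (((yon S).map s' ≫ c) ≫ Groth.L24.Hensel.sndMap e)]
  rfl

end Groth.L24.Multi
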