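import Groth.Agent.L24.Multi.Universal
import Groth.Agent.L24.Multi.StackPoint
import Groth.Agent.L24.St.MonoQcStack
import Groth.Agent.L24.Multi.FromPoint
import Groth.Agent.L24.Multi.Chart
import Groth.Agent.L24.Hensel.PointChart
import Mathlib.FieldTheory.PrimitiveElement

/-!
Every field point of an algebraic stack lifts to an affine smooth chart.
-/

set_option autoImplicit false
set_option backward.isDefEq.respectTransparency false
set_option backward.isDefEq.respectTransparency.types false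

universe u

open CategoryTheory CategoryTheory.Limits AlgebraicGeometry Opposite AlgSp

open scoped TensorProduct

noncomputable section

namespace Groth.L24.Multi

open Groth.L24.St

variable {S : Scheme.{u}}

/-- The universal cover over the base. -/
abbrev uMap (S : Scheme.{u}) (n : ℕ) : bas S (Cov.{u} n) ⟶ bas S (Par.{u} n) :=
  bmap (S := S) (algebraMap (Par.{u} n) (Cov.{u} n))

theorem etale_uMap (n : ℕ) : Etale (uMap S n).left :=
  bmap_prop _ ((HasRingHomProperty.Spec_iff (P := @Etale)).2 (RingHom.etale_algebraMap.2 (etale_cov n)))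

theorem surjective_uMap (n : ℕ) : Surjective (uMap S n).left := by
  refine bmap_prop _ ⟨?_⟩
  cases subsingleton_or_nontrivial (Par.{u} n)
  · exact fun t => isEmptyElim (α := PrimeSpectrum (Par.{u} n)) t
  · have : Nontrivial (Cov.{u} n) := by
      refine ⟨(AdjoinRoot.powerBasis' (monic_univPoly n)).basis ⟨0, ?_⟩, 0, Module.Basis.ne_zero _ _⟩
      simp [natDegree_univPoly]
    exact PrimeSpectrum.comap_surjective_of_faithfullyFlat (A := Par.{u} n) (B := Cov.{u} n)

theorem smooth_specZ_of (C D : Type u) [CommRing C] [CommRing D] (φ : C →+* D) (hφ : φ.Smooth)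
    (hC : Smooth (specULiftZIsTerminal.from (Spec (CommRingCat.of C)))) :
    Smooth (specULiftZIsTerminal.from (Spec (CommRingCat.of D))) := by
  rw [specULiftZIsTerminal.hom_ext (specULiftZIsTerminal.from _)
    (Spec.map (CommRingCat.ofHom φ) ≫ specULiftZIsTerminal.from (Spec (CommRingCat.of C)))]
  have : Smooth (Spec.map (CommRingCat.ofHom φ)) := (HasRingHomProperty.Spec_iff (P := @Smooth)).2 hφ
  infer_instance

theorem smooth_coef (n : ℕ) : Smooth (specULiftZIsTerminal.from (Spec (CommRingCat.of (Coef.{u} n)))) := by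
  refine smooth_specZ_of (Int'.{u}) _ MvPolynomial.C (RingHom.smooth_algebraMap.2 ⟨inferInstance, inferInstance⟩) ?_
  rw [specULiftZIsTerminal.hom_ext (specULiftZIsTerminal.from _) (𝟙 _)]
  infer_instance

/-- The universal cover splits. -/
theorem exists_univ_splitting (n : ℕ) : Nonempty (Splitting (uMap S n)) := by
  obtain ⟨T, _, _, hff, het, m, ⟨e⟩⟩ := exists_split.{u} n
  have hT : Smooth (specULiftZIsTerminal.from (Spec (CommRingCat.of T))) := by
    refine smooth_specZ_of (Par.{u} n) T (algebraMap _ _) (RingHom.smooth_algebraMap.2 inferInstance) ?_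
    exact smooth_specZ_of (Coef.{u} n) _ (algebraMap _ _) (RingHom.smooth_algebraMap.2 inferInstance) (smooth_coef n)
  exact ⟨splittingOfSplit (B := Cov.{u} n) e hT
    ((HasRingHomProperty.Spec_iff (P := @Etale)).2 (RingHom.etale_algebraMap.2 het))
    ⟨PrimeSpectrum.comap_surjective_of_faithfullyFlat (A := Par.{u} n) (B := T)⟩⟩

theorem exists_affHom_eq {A : Type u} [CommRing A] {X : Scheme.{u}} (g : A →+* Γ(X, ⊤)) :
    ∃ t : X ⟶ Spec (CommRingCat.of A), affHom t = g := by
  refine ⟨X.toSpecΓ ≫ Spec.map (CommRingCat.ofHom g), ?_⟩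
  rw [affHom_comp]
  have : affHom (A := Γ(X, ⊤)) X.toSpecΓ = RingHom.id _ := by
    unfold affHom
    rw [Scheme.toSpecΓ_appTop]
    exact congrArg CommRingCat.Hom.hom (Iso.inv_hom_id _)
  rw [this]; rfl

variable {𝒵 : AlgSt.Cat S} {U : Over S} {x : FibCat.overCat U ⥤ᵇ 𝒵}
  (h : AlgSt.IsAlgStack Scheme.fppfPrecoverage 𝒵) (hr : AlgSt.RepByAlgSpWith (LocP @Smooth) x)
  (hs : AlgSt.RepByAlgSpWith AlgSp.IsSurjectiveMor x)

include hs in
/-- Every field point comes from a point of a multisection sheaf. -/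
theorem exists_multi_point (k : Type u) [Field k] (str : Spec (CommRingCat.of k) ⟶ S)
    (z : FibCat.overCat (Over.mk str) ⥤ᵇ 𝒵) :
    ∃ (n : ℕ) (ξ : (yon S).obj (Over.mk str) ⟶ multi (stArr h hr) (uMap S n)), RealizesPt h hr ξ z := by
  obtain ⟨L, _, _, _, _, v, ⟨i⟩⟩ := exists_stack_point h.isStack.1 hr hs k str z
  let pb := Field.powerBasisOfFiniteOfSeparable k L
  have hp : (minpoly k pb.gen).Monic := minpoly.monic pb.isIntegral_gen
  obtain ⟨n, hn⟩ : ∃ n, (minpoly k pb.gen).natDegree = n + 1 :=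
    ⟨(minpoly k pb.gen).natDegree - 1, by have := minpoly.natDegree_pos pb.isIntegral_gen; omega⟩
  obtain ⟨φ, hφ⟩ := exists_point.{u} (minpoly k pb.gen) hp hn (Algebra.IsSeparable.isSeparable k pb.gen)
  let θ : Over.mk str ⟶ bas S (Par.{u} n) := ofAff (Spec.map (CommRingCat.ofHom φ))
  let P := pullback (uMap S n) θ
  let t := toAff (pullback.fst (uMap S n) θ : P ⟶ _)
  let w : P.left ⟶ Spec (CommRingCat.of k) := (pullback.snd (uMap S n) θ : P ⟶ _).left
  have hc : (affHom t).comp (algebraMap (Par.{u} n) (Cov.{u} n)) = (affHom w).comp φ := by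
    rw [← affHom_comp, ← affHom_comp]
    congr 1
    rw [← toAff_bmap, pullback.condition, toAff_comp, toAff_ofAff]
  algebraize [affHom w]
  let y := affHom t (AdjoinRoot.root (univPoly.{u} n))
  have hy : Polynomial.aeval y (minpoly k pb.gen) = 0 := by
    rw [← hφ, Polynomial.aeval_def, Polynomial.eval₂_map, show (algebraMap k Γ(P.left, ⊤)).comp φ = _ from hc.symm,
      ← Polynomial.hom_eval₂]
    exact (congrArg (affHom t) (AdjoinRoot.eval₂_root _)).trans (map_zero _)
  obtain ⟨c, hc'⟩ := exists_affHom_eq (X := P.left) (pb.lift y hy).toRingHom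
  have hcw : c ≫ Spec.map (CommRingCat.ofHom (algebraMap k L)) = w := by
    apply affHom_injective
    rw [affHom_comp, hc']
    exact RingHom.ext fun a => (pb.lift y hy).commutes a
  let c' : P ⟶ fieldOver str L := Over.homMk c (by
    show c ≫ Spec.map _ ≫ str = P.hom
    rw [← Category.assoc, hcw]
    exact Over.w (pullback.snd (uMap S n) θ))
  have hcp : c' ≫ fieldOverHom str L = pullback.snd (uMap S n) θ := Over.OverMorphism.ext hcw
  have α : BasedFunctor.comp (AlgSt.overMap (pullback.snd (uMap S n) θ)) z ≅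
      BasedFunctor.comp (AlgSt.overMap (c' ≫ v)) x :=
    eqToIso (by rw [hcp]) ≪≫ whiskerR (overMapCompIso c' (fieldOverHom str L)) z ≪≫
      (whiskerL (AlgSt.overMap c') i) ≪≫ (whiskerR (overMapCompIso c' v) x).symm
  obtain ⟨E, -, hE⟩ := exists_datum_of_lift h.isStack.1 h.isStack hr
    (IsPullback.of_hasPullback (uMap S n) θ) z (c' ≫ v) α
  refine ⟨n, (homEquiv (stArr h hr) (uMap S n) (Over.mk str)).symm E, ?_⟩
  rw [RealizesPt, Equiv.apply_symm_apply]
  exact hE

/-- Affine smooth charts through which every field point lifts. -/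
theorem exists_affine_charts_lift_fields (h : AlgSt.IsAlgStack Scheme.fppfPrecoverage 𝒵) :
    ∃ (I : Type u) (A : I → Over S) (p : ∀ i, FibCat.overCat (A i) ⥤ᵇ 𝒵),
      (∀ i, IsAffine (A i).left) ∧ (∀ i, AlgSt.RepByAlgSpWith (LocP @Smooth) (p i)) ∧
      ∀ (k : Type u) [Field k] (str : Spec (CommRingCat.of k) ⟶ S) (z : FibCat.overCat (Over.mk str) ⥤ᵇ 𝒵),
        ∃ (i : I) (g : Over.mk str ⟶ A i), Nonempty (BasedFunctor.comp (AlgSt.overMap g) (p i) ≅ z) := by
  obtain ⟨U, x, hr, hs⟩ := h.atlas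
  have sp : ∀ n, Splitting (uMap S n) := fun n => (exists_univ_splitting n).some
  choose I A q hA hq hlift using fun n =>
    Groth.L24.Hensel.exists_affines_lift_fields (isAlgSpace_multi (stArr h hr) (uMap S n) (sp n))
  have hch : ∀ (a : Σ n : ULift.{u} ℕ, I n.down), ∃ p : FibCat.overCat (A a.1.down a.2) ⥤ᵇ 𝒵,
      RealizesPt h hr (q a.1.down a.2) p ∧ AlgSt.RepByAlgSpWith (LocP @Smooth) p := fun a =>
    have := etale_uMap (S := S) a.1.down
    have := surjective_uMap (S := S) a.1.down
    exists_smooth_chart h hr (sp _) (q a.1.down a.2) (hq _ _)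
  choose p hp hps using hch
  refine ⟨Σ n : ULift.{u} ℕ, I n.down, fun a => A a.1.down a.2, p, fun a => hA _ _, hps, fun k _ str z => ?_⟩
  obtain ⟨n, ξ, hξ⟩ := exists_multi_point h hr hs k str z
  obtain ⟨j, g, hg⟩ := hlift n k (TK := Over.mk str) (Iso.refl _) ξ
  have := etale_uMap (S := S) n
  have := surjective_uMap (S := S) n
  exact ⟨⟨⟨n⟩, j⟩, g, iso_of_lift h hr (hp ⟨⟨n⟩, j⟩) hξ g (hg.trans ((Equiv.symm_apply_apply _ _).symm))⟩

end Groth.L24.Multi
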