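import Groth.Agent.L24.Multi.FieldPoint
import Groth.Agent.L24.Hensel.StackLift

/-!
Points over henselian local rings lift along smooth charts once their closed points do.
-/

set_option autoImplicit false
set_option backward.isDefEq.respectTransparency false
set_option backward.isDefEq.respectTransparency.types false

universe u

open CategoryTheory CategoryTheory.Limits AlgebraicGeometry Opposite AlgSp

noncomputable section

namespace Groth.L24.Multi

open Groth.L24.St

variable {S : Scheme.{u}} {𝒵 : AlgSt.Cat S}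

/-- Lifting along a smooth chart from the closed point. -/
theorem exists_lift_chart {Z : Over S} {p : FibCat.overCat Z ⥤ᵇ 𝒵} (hp : AlgSt.RepByAlgSpWith (LocP @Smooth) p)
    {R : Type u} [CommRing R] [HenselianLocalRing R] {str : Spec (CommRingCat.of R) ⟶ S}
    (z : FibCat.overCat (Over.mk str) ⥤ᵇ 𝒵)
    (g₀ : Groth.L24.Hensel.quotOver str (IsLocalRing.maximalIdeal R) ⟶ Z)
    (α : BasedFunctor.comp (AlgSt.overMap g₀) p ≅
      BasedFunctor.comp (AlgSt.overMap (Groth.L24.Hensel.quotHom str (IsLocalRing.maximalIdeal R))) z) :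
    ∃ g : Over.mk str ⟶ Z, Nonempty (BasedFunctor.comp (AlgSt.overMap g) p ≅ z) := by
  obtain ⟨F, e, he, hP⟩ := ((repWith_precomp (toOverCat_isEquivOver Z) p).2 hp) (Over.mk str) z
  obtain ⟨σ₀, hσ₁, -⟩ := Groth.L24.Hensel.exists_section_of_point he
    (Groth.L24.Hensel.quotHom str (IsLocalRing.maximalIdeal R)) ((yon S).map g₀) α
  obtain ⟨s, hs₁, -⟩ := Groth.L24.Hensel.exists_section_of_locP_smooth F.property _ hP σ₀ hσ₁
  obtain ⟨i⟩ := Groth.L24.Hensel.iso_of_point e (𝟙 _) s (by rw [hs₁, (AlgSp.yon S).map_id])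
  refine ⟨(yon S).preimage (s ≫ Groth.L24.Hensel.sndMap e),
    ⟨eqToIso ?_ ≪≫ i ≪≫ whiskerR (Groth.L24.Hensel.overMapIdIso (Over.mk str)) z⟩⟩
  conv_rhs => rw [← (yon S).map_preimage (s ≫ Groth.L24.Hensel.sndMap e)]
  rfl

/-- Affine smooth charts through which all points over henselian local rings lift. -/
theorem exists_affine_charts_lift_henselian (h : AlgSt.IsAlgStack Scheme.fppfPrecoverage 𝒵) :
    ∃ (I : Type u) (A : I → Over S) (p : ∀ i, FibCat.overCat (A i) ⥤ᵇ 𝒵),
      (∀ i, IsAffine (A i).left) ∧ (∀ i, AlgSt.RepByAlgSpWith (LocP @Smooth) (p i)) ∧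
      ∀ (R : Type u) [CommRing R] [HenselianLocalRing R] (str : Spec (CommRingCat.of R) ⟶ S)
        (z : FibCat.overCat (Over.mk str) ⥤ᵇ 𝒵),
        ∃ (i : I) (g : Over.mk str ⟶ A i), Nonempty (BasedFunctor.comp (AlgSt.overMap g) (p i) ≅ z) := by
  obtain ⟨I, A, p, hA, hp, hlift⟩ := exists_affine_charts_lift_fields h
  refine ⟨I, A, p, hA, hp, fun R _ _ str z => ?_⟩
  obtain ⟨i, g₀, ⟨α⟩⟩ := hlift (IsLocalRing.ResidueField R)
    (Spec.map (CommRingCat.ofHom (Ideal.Quotient.mk (IsLocalRing.maximalIdeal R))) ≫ str)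
    (BasedFunctor.comp (AlgSt.overMap (Groth.L24.Hensel.quotHom str (IsLocalRing.maximalIdeal R))) z)
  exact ⟨i, exists_lift_chart (hp i) z g₀ α⟩

end Groth.L24.Multi
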