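import Mathlib.RingTheory.Etale.StandardEtale
import Mathlib.RingTheory.TotallySplit
import Mathlib.RingTheory.Polynomial.Resultant.Basic
import Mathlib.RingTheory.AdjoinRoot
import Mathlib.FieldTheory.Separable
import Mathlib.RingTheory.Smooth.Basic

/-!
The universal separable monic polynomial of given degree.
-/

set_option autoImplicit false

universe u

open Polynomial
open scoped TensorProduct

noncomputable section

namespace Groth.L24.Multi

/-- Integers in the universe. -/
abbrev Int' : Type u := ULift.{u} ℤ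

/-- The coefficient ring. -/
abbrev Coef (n : ℕ) : Type u := MvPolynomial (Fin (n + 1)) Int'.{u}

/-- The generic monic polynomial. -/
def genPoly (n : ℕ) : (Coef.{u} n)[X] :=
  X ^ (n + 1) + ∑ i : Fin (n + 1), C (MvPolynomial.X i) * X ^ (i : ℕ)

/-- The discriminant element. -/
def disc (n : ℕ) : Coef.{u} n := (genPoly n).resultant (derivative (genPoly n)) (n + 1) n

/-- The parameter ring. -/
abbrev Par (n : ℕ) : Type u := Localization.Away (disc.{u} n)

/-- The universal polynomial. -/
def univPoly (n : ℕ) : (Par.{u} n)[X] := (genPoly n).map (algebraMap _ _)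

theorem degree_lower_lt {R : Type u} [CommRing R] {n : ℕ} (c : Fin (n + 1) → R) :
    degree (∑ i : Fin (n + 1), C (c i) * X ^ (i : ℕ)) < ((n + 1 : ℕ) : WithBot ℕ) := by
  refine lt_of_le_of_lt (degree_sum_le _ _) ((Finset.sup_lt_iff (WithBot.bot_lt_coe _)).2 fun i _ => ?_)
  exact lt_of_le_of_lt (degree_C_mul_X_pow_le _ _) (by exact_mod_cast i.isLt)

theorem univPoly_eq (n : ℕ) : univPoly.{u} n =
    X ^ (n + 1) + ∑ i : Fin (n + 1), C (algebraMap (Coef.{u} n) (Par.{u} n) (MvPolynomial.X i)) * X ^ (i : ℕ) := by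
  simp [univPoly, genPoly, Polynomial.map_sum]

theorem monic_univPoly (n : ℕ) : (univPoly.{u} n).Monic := by
  rw [univPoly_eq]; exact monic_X_pow_add (degree_lower_lt _)

theorem natDegree_genPoly (n : ℕ) : (genPoly.{u} n).natDegree = n + 1 := by
  rw [genPoly, natDegree_add_eq_left_of_degree_lt (by rw [degree_X_pow]; exact degree_lower_lt _), natDegree_X_pow]

theorem natDegree_univPoly (n : ℕ) [Nontrivial (Par.{u} n)] : (univPoly.{u} n).natDegree = n + 1 := by
  rw [univPoly, Monic.natDegree_map (show (genPoly.{u} n).Monic from monic_X_pow_add (degree_lower_lt _)), natDegree_genPoly]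

theorem exists_bezout (n : ℕ) : ∃ p q, univPoly.{u} n * p + derivative (univPoly.{u} n) * q = 1 := by
  obtain ⟨p, q, -, -, h⟩ := exists_mul_add_mul_eq_C_resultant (m := n + 1) (n := n) (R := Coef.{u} n) (genPoly.{u} n)
    (derivative (genPoly.{u} n)) (natDegree_genPoly n).le
    ((natDegree_derivative_le _).trans (by rw [natDegree_genPoly]; omega)) (Or.inl n.succ_ne_zero)
  obtain ⟨e, he⟩ := IsLocalization.Away.algebraMap_isUnit (S := Par.{u} n) (disc.{u} n)
  refine ⟨p.map (algebraMap _ _) * C (↑e⁻¹ : Par.{u} n), q.map (algebraMap _ _) * C (↑e⁻¹ : Par.{u} n), ?_⟩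
  have h' := congrArg (fun t => Polynomial.map (algebraMap (Coef.{u} n) (Par.{u} n)) t * C (↑e⁻¹ : Par.{u} n)) h
  simp only [Polynomial.map_add, Polynomial.map_mul, ← derivative_map, map_C] at h'
  rw [show algebraMap (Coef.{u} n) (Par.{u} n) ((genPoly n).resultant (derivative (genPoly n)) (n + 1) n) = ↑e from he.symm,
    ← C_mul, Units.mul_inv, C_1] at h'
  rw [← h', univPoly]
  ring

/-- The universal cover ring. -/
abbrev Cov (n : ℕ) : Type u := AdjoinRoot (univPoly.{u} n)

theorem etale_cov (n : ℕ) : Algebra.Etale (Par.{u} n) (Cov.{u} n) := by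
  obtain ⟨p, q, h⟩ := exists_bezout.{u} n
  let P : StandardEtalePair (Par.{u} n) :=
    ⟨univPoly n, monic_univPoly n, 1, q, p, 0, by rw [pow_zero, ← h]; ring⟩
  have h1 : aeval P.X (univPoly.{u} n) = 0 := P.hasMap_X.1
  have h2 : P.HasMap (AdjoinRoot.root (univPoly.{u} n)) :=
    ⟨by rw [AdjoinRoot.aeval_eq]; exact AdjoinRoot.mk_self, by simp [P]⟩
  let a : Cov.{u} n →ₐ[Par.{u} n] P.Ring := AdjoinRoot.liftAlgHom _ (Algebra.ofId _ _) P.X h1
  let b : P.Ring →ₐ[Par.{u} n] Cov.{u} n := P.lift _ h2
  refine Algebra.Etale.of_equiv (AlgEquiv.ofAlgHom b a ?_ ?_)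
  · refine AdjoinRoot.algHom_ext ?_
    simp [a, b]
  · refine P.hom_ext ?_
    simp [a, b]

instance (n : ℕ) : Algebra.Etale (Par.{u} n) (Cov.{u} n) := etale_cov n

instance (n : ℕ) : Module.Finite (Par.{u} n) (Cov.{u} n) := (monic_univPoly n).finite_adjoinRoot

instance (n : ℕ) : Module.Free (Par.{u} n) (Cov.{u} n) := (monic_univPoly n).free_adjoinRoot

theorem exists_split (n : ℕ) : ∃ (T : Type u) (_ : CommRing T) (_ : Algebra (Par.{u} n) T),
    Module.FaithfullyFlat (Par.{u} n) T ∧ Algebra.Etale (Par.{u} n) T ∧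
      ∃ m, Nonempty ((T ⊗[Par.{u} n] Cov.{u} n) ≃ₐ[T] (Fin (m + 1) → T)) := by
  cases subsingleton_or_nontrivial (Par.{u} n)
  · have : Subsingleton (Par.{u} n ⊗[Par.{u} n] Cov.{u} n) := RingHom.codomain_trivial (algebraMap (Par.{u} n) _)
    have : Subsingleton (Fin 1 → Par.{u} n) := inferInstance
    exact ⟨Par.{u} n, inferInstance, inferInstance, inferInstance, inferInstance, 0, ⟨default⟩⟩
  have hr : Module.rankAtStalk (R := Par.{u} n) (Cov.{u} n) = (n + 1 : ℕ) := by
    rw [Module.rankAtStalk_eq_finrank_of_free]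
    ext p
    simp [(AdjoinRoot.powerBasis' (monic_univPoly n)).finrank]
    exact natDegree_univPoly n
  obtain ⟨T, _, _, hff, _, het, hs⟩ := Algebra.IsFiniteSplit.exists_tensorProduct_of_etale hr
  refine ⟨T, inferInstance, inferInstance, hff, het, ?_⟩
  obtain ⟨m, ⟨e⟩⟩ := hs.nonempty_algEquiv_fun
  cases m with
  | succ m => exact ⟨m, ⟨e⟩⟩
  | zero =>
    have : Nontrivial T := by
      by_contra hc
      rw [not_nontrivial_iff_subsingleton] at hc
      have : Subsingleton (T ⊗[Par.{u} n] Par.{u} n) := (TensorProduct.rid (Par.{u} n) T).subsingleton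
      exact not_subsingleton (Par.{u} n) ((Module.FaithfullyFlat.subsingleton_tensorProduct_iff_right (Par.{u} n) T).1 this)
    have h := e.toLinearEquiv.finrank_eq
    rw [Module.finrank_baseChange, (AdjoinRoot.powerBasis' (monic_univPoly n)).finrank] at h
    simp at h
    exact absurd h (by rw [natDegree_univPoly]; omega)

/-- A separable polynomial gives a point of the parameter ring. -/
theorem exists_point {k : Type u} [Field k] (p : k[X]) (hp : p.Monic) {n : ℕ} (hn : p.natDegree = n + 1)
    (hs : p.Separable) : ∃ φ : Par.{u} n →+* k, (univPoly.{u} n).map φ = p := by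
  let φ₀ : Coef.{u} n →+* k :=
    MvPolynomial.eval₂Hom ((Int.castRingHom k).comp ULift.ringEquiv.toRingHom) (fun i => p.coeff i)
  have hmap : (genPoly.{u} n).map φ₀ = p := by
    conv_rhs => rw [hp.as_sum, hn, ← Fin.sum_univ_eq_sum_range (fun i => C (p.coeff i) * X ^ i) (n + 1)]
    simp [genPoly, φ₀, Polynomial.map_sum]
  have hne : φ₀ (disc.{u} n) ≠ 0 := by
    rw [disc, ← resultant_map_map, ← derivative_map, hmap]
    have hd : (derivative p).natDegree ≤ n := (natDegree_derivative_le _).trans (by omega)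
    obtain ⟨e, he⟩ := Nat.exists_eq_add_of_le hd
    rw [show p.resultant (derivative p) (n + 1) n = p.resultant (derivative p) (n + 1) ((derivative p).natDegree + e) by rw [← he],
      resultant_add_right_deg _ _ _ _ _ le_rfl, ← hn, hp.coeff_natDegree, one_pow, one_mul]
    exact resultant_ne_zero _ _ hs
  refine ⟨IsLocalization.Away.lift (disc.{u} n) (isUnit_iff_ne_zero.2 hne), ?_⟩
  rw [univPoly, Polynomial.map_map, IsLocalization.Away.lift_comp, hmap]

end Groth.L24.Multi
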