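import Groth.Agent.L24.Multi.Split
import Groth.Agent.L24.Multi.UnivRing
import Mathlib.AlgebraicGeometry.Limits

/-!
Schemes over the base from rings, and the splitting of the universal cover.
-/

set_option autoImplicit false
set_option backward.isDefEq.respectTransparency false
set_option backward.isDefEq.respectTransparency.types false

universe u

open CategoryTheory CategoryTheory.Limits AlgebraicGeometry Opposite AlgSp

open scoped TensorProduct

noncomputable section

namespace Groth.L24.Multi

variable {S : Scheme.{u}}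

/-- The product of the base with an affine scheme. -/
def bas (S : Scheme.{u}) (A : Type u) [CommRing A] : Over S :=
  Over.mk (pullback.fst (specULiftZIsTerminal.from S) (specULiftZIsTerminal.from (Spec (CommRingCat.of A))))

variable {A B : Type u} [CommRing A] [CommRing B]

/-- The affine coordinate of a point. -/
def toAff {T : Over S} (g : T ⟶ bas S A) : T.left ⟶ Spec (CommRingCat.of A) := g.left ≫ pullback.snd _ _

/-- A point from its affine coordinate. -/
def ofAff {T : Over S} (t : T.left ⟶ Spec (CommRingCat.of A)) : T ⟶ bas S A :=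
  Over.homMk (pullback.lift T.hom t (specULiftZIsTerminal.hom_ext _ _)) (pullback.lift_fst _ _ _)

theorem toAff_ofAff {T : Over S} (t : T.left ⟶ Spec (CommRingCat.of A)) : toAff (ofAff (S := S) t) = t :=
  pullback.lift_snd _ _ _

theorem bas_ext {T : Over S} {g g' : T ⟶ bas S A} (h : toAff g = toAff g') : g = g' :=
  Over.OverMorphism.ext (pullback.hom_ext ((Over.w g).trans (Over.w g').symm) h)

/-- The map induced by a ring map. -/
def bmap (φ : A →+* B) : bas S B ⟶ bas S A := ofAff (toAff (𝟙 (bas S B)) ≫ Spec.map (CommRingCat.ofHom φ))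

theorem toAff_comp {T T' : Over S} (k : T' ⟶ T) (g : T ⟶ bas S A) : toAff (k ≫ g) = k.left ≫ toAff g :=
  Category.assoc _ _ _

theorem toAff_bmap {T : Over S} (φ : A →+* B) (g : T ⟶ bas S B) :
    toAff (g ≫ bmap φ) = toAff g ≫ Spec.map (CommRingCat.ofHom φ) := by
  rw [bmap, toAff_comp, toAff_ofAff, ← Category.assoc, ← toAff_comp, Category.comp_id]

theorem bmap_left_isPullback (φ : A →+* B) :
    IsPullback (toAff (𝟙 (bas S B))) (bmap (S := S) φ).left (Spec.map (CommRingCat.ofHom φ)) (toAff (𝟙 (bas S A))) := by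
  have h1 : (bmap (S := S) φ).left ≫ toAff (𝟙 (bas S A)) = toAff (𝟙 (bas S B)) ≫ Spec.map (CommRingCat.ofHom φ) := by
    rw [← toAff_comp, ← toAff_bmap φ (𝟙 _), Category.comp_id, Category.id_comp]
  have h2 : toAff (𝟙 (bas S A)) = pullback.snd _ _ := Category.id_comp _
  have h3 : toAff (𝟙 (bas S B)) = pullback.snd _ _ := Category.id_comp _
  refine IsPullback.of_bot ?_ h1.symm (show IsPullback (toAff (𝟙 (bas S A))) (bas S A).hom _ _ from
    h2 ▸ (IsPullback.of_hasPullback (specULiftZIsTerminal.from S) (specULiftZIsTerminal.from _)).flip)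
  rw [Over.w (bmap (S := S) φ), show Spec.map (CommRingCat.ofHom φ) ≫ specULiftZIsTerminal.from _ =
    specULiftZIsTerminal.from (Spec (CommRingCat.of B)) from specULiftZIsTerminal.hom_ext _ _, h3]
  exact (IsPullback.of_hasPullback (specULiftZIsTerminal.from S) (specULiftZIsTerminal.from _)).flip

theorem bmap_prop (P : MorphismProperty Scheme.{u}) [P.IsStableUnderBaseChange] {φ : A →+* B}
    (h : P (Spec.map (CommRingCat.ofHom φ))) : P (bmap (S := S) φ).left :=
  MorphismProperty.of_isPullback (bmap_left_isPullback φ) h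

theorem bas_smooth (h : Smooth (specULiftZIsTerminal.from (Spec (CommRingCat.of A)))) : Smooth (bas S A).hom :=
  MorphismProperty.of_isPullback (IsPullback.of_hasPullback _ _).flip h

/-- The ring map of an affine point. -/
def affHom {X : Scheme.{u}} (t : X ⟶ Spec (CommRingCat.of A)) : A →+* Γ(X, ⊤) :=
  ((Scheme.ΓSpecIso (CommRingCat.of A)).inv ≫ t.appTop).hom

theorem affHom_comp {X : Scheme.{u}} (t : X ⟶ Spec (CommRingCat.of B)) (φ : A →+* B) :
    affHom (t ≫ Spec.map (CommRingCat.ofHom φ)) = (affHom t).comp φ := by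
  unfold affHom
  rw [Scheme.Hom.comp_appTop, ← Category.assoc, ← Scheme.ΓSpecIso_inv_naturality]
  rfl

theorem affHom_precomp {X Y : Scheme.{u}} (k : Y ⟶ X) (t : X ⟶ Spec (CommRingCat.of A)) :
    affHom (k ≫ t) = k.appTop.hom.comp (affHom t) := by
  unfold affHom
  rw [Scheme.Hom.comp_appTop, ← Category.assoc]
  rfl

theorem affHom_injective {X : Scheme.{u}} {t t' : X ⟶ Spec (CommRingCat.of A)} (h : affHom t = affHom t') : t = t' :=
  AlgebraicGeometry.ext_of_isAffine (by
    rw [← cancel_epi (Scheme.ΓSpecIso (CommRingCat.of A)).inv]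
    exact CommRingCat.hom_ext h)

theorem isEmpty_of_one_eq_zero {X : Scheme.{u}} (h : (1 : Γ(X, ⊤)) = 0) : IsEmpty ↥X :=
  ⟨fun x => one_ne_zero (α := X.presheaf.stalk x) (by
    rw [← map_one (X.presheaf.germ ⊤ x trivial).hom, h, map_zero])⟩

/-- The splitting of the cover of the parameter rings. -/
def splittingOfSplit [Algebra A B] {C : Type u} [CommRing C] [Algebra A C] {m : ℕ}
    (e : (C ⊗[A] B) ≃ₐ[C] (Fin (m + 1) → C)) (hsm : Smooth (specULiftZIsTerminal.from (Spec (CommRingCat.of C))))
    (hC : Etale (Spec.map (CommRingCat.ofHom (algebraMap A C))))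
    (hs : Surjective (Spec.map (CommRingCat.ofHom (algebraMap A C)))) :
    Splitting (bmap (S := S) (algebraMap A B)) where
  Θ' := bas S C
  r := bmap (algebraMap A C)
  etale := bmap_prop _ hC
  surj := bmap_prop _ hs
  smooth := bas_smooth hsm
  n := m
  sec i := bmap ((Pi.evalRingHom (fun _ => C) i).comp (e.toRingHom.comp Algebra.TensorProduct.includeRight.toRingHom))
  sec_π i := bas_ext (by
    rw [toAff_bmap, ← Category.id_comp (bmap (algebraMap A C)), toAff_bmap, ← Category.id_comp (bmap (S := S) _),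
      toAff_bmap, Category.assoc, ← Spec.map_comp, ← CommRingCat.ofHom_comp]
    congr 3
    ext a
    show e (Algebra.TensorProduct.includeRight (algebraMap A B a)) i = algebraMap A C a
    rw [AlgHom.commutes, IsScalarTower.algebraMap_apply A C (C ⊗[A] B), AlgEquiv.commutes]
    rfl)
  cover {T} ψ q h t := by
    have hA : (affHom (toAff q)).comp (algebraMap A B) = (affHom (toAff ψ)).comp (algebraMap A C) := by
      rw [← affHom_comp, ← affHom_comp, ← toAff_bmap, ← toAff_bmap, h]
    algebraize [(affHom (toAff ψ)).comp (algebraMap A C)]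
    let χ₁ : C →ₐ[A] Γ(T.left, ⊤) := { affHom (toAff ψ) with commutes' := fun a => rfl }
    let χ₂ : B →ₐ[A] Γ(T.left, ⊤) := { affHom (toAff q) with commutes' := fun a => RingHom.congr_fun hA a }
    let χ : C ⊗[A] B →ₐ[A] Γ(T.left, ⊤) := Algebra.TensorProduct.lift χ₁ χ₂ fun _ _ => Commute.all _ _
    let ε : Fin (m + 1) → C ⊗[A] B := fun i => e.symm (Pi.single i 1)
    have hsum : ∑ i, χ (ε i) = 1 := by
      rw [← map_sum, ← map_sum, Finset.univ_sum_single]
      exact (congrArg χ (map_one e.symm)).trans (map_one χ)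
    obtain ⟨i, hi⟩ : ∃ i, t ∈ T.left.basicOpen (χ (ε i)) := by
      by_contra hc
      simp only [not_exists, Scheme.mem_basicOpen'' , ] at hc
      have h1 : ∀ i, (T.left.presheaf.germ ⊤ t trivial).hom (χ (ε i)) ∈ IsLocalRing.maximalIdeal _ := fun i =>
        (IsLocalRing.mem_maximalIdeal _).2 (hc i trivial)
      have h2 := Ideal.sum_mem (IsLocalRing.maximalIdeal (T.left.presheaf.stalk t)) (t := Finset.univ) fun i _ => h1 i
      rw [← map_sum, hsum, map_one] at h2
      exact (IsLocalRing.maximalIdeal.isMaximal _).ne_top ((Ideal.eq_top_iff_one _).2 h2)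
    refine ⟨T.left.basicOpen (χ (ε i)), hi, i, bas_ext (affHom_injective ?_)⟩
    let φ := (Pi.evalRingHom (fun _ => C) i).comp (e.toRingHom.comp Algebra.TensorProduct.includeRight.toRingHom)
    rw [toAff_comp, toAff_comp, toAff_bmap, affHom_precomp, affHom_precomp, affHom_comp]
    ext b
    have key : affHom (toAff q) b * χ (ε i) = affHom (toAff ψ) (φ b) * χ (ε i) := by
      have h1 : (1 ⊗ₜ[A] b) * ε i = (φ b ⊗ₜ[A] (1 : B)) * ε i := by
        apply e.injective
        have h2 : e (φ b ⊗ₜ[A] (1 : B)) = fun _ => φ b := e.commutes (φ b)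
        rw [map_mul, map_mul, h2, AlgEquiv.apply_symm_apply]
        ext j
        rcases eq_or_ne j i with rfl | hji
        · rfl
        · simp [hji]
      have h3 := congrArg χ h1
      simpa [χ, χ₁, χ₂, Algebra.TensorProduct.lift_tmul] using h3
    have hu : IsUnit ((T.left.basicOpen (χ (ε i))).ι.appTop.hom (χ (ε i))) := by
      rw [Scheme.Opens.ι_appTop]
      have : (T.left.basicOpen (χ (ε i))).ι ''ᵁ ⊤ = T.left.basicOpen (χ (ε i)) := Scheme.Opens.ι_image_top _
      refine (RingedSpace.isUnit_res_basicOpen _ (χ (ε i))).map (T.left.presheaf.map (eqToHom this).op).hom |> fun hh => ?_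
      rw [← RingHom.comp_apply] at hh
      erw [← CommRingCat.hom_comp, ← Functor.map_comp] at hh
      exact hh
    refine hu.mul_right_cancel ?_
    have h4 := congrArg (T.left.basicOpen (χ (ε i))).ι.appTop.hom key
    rw [map_mul, map_mul] at h4
    exact h4
  disj {T} ψ i j h hne := by
    refine isEmpty_of_one_eq_zero ?_
    have h1 := congrArg (fun g => affHom (toAff g)) h
    simp only [toAff_bmap, affHom_comp] at h1
    algebraize [(affHom (toAff ψ)).comp (algebraMap A C)]
    let χ₁ : C →ₐ[A] Γ(T.left, ⊤) := { affHom (toAff ψ) with commutes' := fun a => rfl }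
    let L : Fin (m + 1) → (C ⊗[A] B →ₐ[A] Γ(T.left, ⊤)) := fun k =>
      χ₁.comp (((Pi.evalAlgHom C (fun _ => C) k).comp e.toAlgHom).restrictScalars A)
    have hL : L i = L j := Algebra.TensorProduct.ext (AlgHom.ext fun c => by
        show affHom (toAff ψ) (e (c ⊗ₜ[A] (1 : B)) i) = affHom (toAff ψ) (e (c ⊗ₜ[A] (1 : B)) j)
        rw [show e (c ⊗ₜ[A] (1 : B)) = fun _ => c from e.commutes c])
      (AlgHom.ext fun b => RingHom.congr_fun h1 b)
    have := AlgHom.congr_fun hL (e.symm (Pi.single i 1))
    simpa [L, χ₁, hne.symm] using this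

end Groth.L24.Multi
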